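import Groth.Agent.L24.FinSub.Piece
import Groth.Agent.L25.DiagIso
import Mathlib.LinearAlgebra.Dimension.StrongRankCondition

/-!
# Subgroups as families, and isomorphism types of finite abelian groups
-/

set_option autoImplicit false
universe u

open CategoryTheory CategoryTheory.Limits MonoidalCategory CartesianMonoidalCategory AlgebraicGeometry
open scoped MonObj

set_option backward.isDefEq.respectTransparency.types false
set_option linter.style.haveILetI false

noncomputable section

namespace Groth.L24.FinSub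

open Groth.L25 Groth.L25.SplitSub

section Types

/-- abelian group structures on the sets `Fin n` -/
abbrev Struct : Type := Σ n : ℕ, AddCommGroup (Fin n)

/-- the set underlying a structure; a separate type, as `Fin n` has an addition of its own -/
def Struct.Carrier (a : Struct) : Type := Fin a.1

instance (a : Struct) : AddCommGroup a.Carrier := a.2

instance (a : Struct) : Finite a.Carrier := inferInstanceAs (Finite (Fin a.1))

instance structSetoid : Setoid Struct where
  r a b := Nonempty (a.Carrier ≃+ b.Carrier)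
  iseqv := ⟨fun _ => ⟨AddEquiv.refl _⟩, fun ⟨e⟩ => ⟨e.symm⟩, fun ⟨e⟩ ⟨e'⟩ => ⟨e.trans e'⟩⟩

/-- isomorphism types of finite abelian groups -/
abbrev Types : Type u := ULift.{u} (Quotient structSetoid)

/-- a group of the given type -/
abbrev grpOf (i : Types.{u}) : Type := (Quotient.out i.down).Carrier

theorem types_ext {i k : Types.{u}} (e : grpOf i ≃+ grpOf k) : i = k := by
  refine ULift.ext _ _ ?_
  rw [← Quotient.out_eq i.down, ← Quotient.out_eq k.down]
  exact Quotient.sound ⟨e⟩

theorem exists_type (M : Type) [AddCommGroup M] [Finite M] : ∃ i : Types.{u}, Nonempty (grpOf i ≃+ M) := by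
  let e := (Finite.equivFin M).symm
  letI := e.addCommGroup
  let a : Struct := ⟨Nat.card M, e.addCommGroup⟩
  refine ⟨ULift.up (Quotient.mk _ a), ?_⟩
  obtain ⟨e'⟩ := Quotient.exact (Quotient.out_eq (Quotient.mk structSetoid a))
  let f : a.Carrier ≃+ M :=
    { (e : a.Carrier ≃ M) with map_add' := fun x y => e.apply_symm_apply (e x + e y) }
  exact ⟨AddEquiv.trans e' f⟩

end Types

variable {S : Scheme.{u}}

theorem finite_of_isFinite_DS {T : Scheme.{u}} {M : Type} [AddCommGroup M] (hM : IsFinite (Red.DS T M).hom)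
    (t : T) : Finite M := by
  let K : Type u := T.residueField t
  let ξ : Spec (CommRingCat.of K) ⟶ T := T.fromSpecResidueField t
  let c := ActBC.bcCompIso ξ (specULiftZIsTerminal.from T) (Red.diag (ULift.{u} ℤ) M)
    (d := specULiftZIsTerminal.from (Spec (CommRingCat.of K))) (specULiftZIsTerminal.hom_ext _ _)
  haveI : IsFinite (Red.bc ξ (Red.DS T M)).hom := MorphismProperty.pullback_snd _ ξ hM
  haveI h2 : IsFinite (Red.DS (Spec (CommRingCat.of K)) M).hom := by
    haveI : IsIso c.inv.left := inferInstanceAs (IsIso ((Over.forget _).map c.inv))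
    have h0 : IsFinite (c.inv.left ≫ (Red.bc ξ (Red.DS T M)).hom) := inferInstance
    rw [Over.w c.inv] at h0
    exact h0
  haveI : IsFinite (Red.diag K M).hom := by
    haveI : IsIso (DiagIso.theta K M) := inferInstanceAs (IsIso (DiagIso.isoOver K M).hom)
    haveI : IsIso (DiagIso.theta K M).left := inferInstanceAs (IsIso ((Over.forget _).map (DiagIso.theta K M)))
    rw [← Over.w (DiagIso.theta K M)]
    infer_instance
  haveI : Module.Finite K (MonoidAlgebra K (Multiplicative M)) :=
    RingHom.finite_algebraMap.1 ((IsFinite.SpecMap_iff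
      (f := CommRingCat.ofHom (algebraMap K (MonoidAlgebra K (Multiplicative M))))).1
      (inferInstanceAs (IsFinite (Red.diag K M).hom)))
  haveI : Finite (Multiplicative M) := Module.Finite.finite_basis (MonoidAlgebra.basis (Multiplicative M) K)
  exact Finite.of_equiv _ Multiplicative.toAdd

variable {F : Type} [AddCommGroup F] {Y G : Over S}

/-- the subscheme of a family, on the base change of the diagonalisable group -/
def bcSub (φ : Red.DS S F ⊗ Y ⟶ G) : Red.bc Y.hom (Red.DS S F) ⟶ Red.bc Y.hom G := sub φ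

theorem toBase_comp_sub (φ : Red.DS S F ⊗ Y ⟶ G) {T : Over Y.left} (x : T ⟶ Red.bc Y.hom (Red.DS S F)) :
    NilAction.toBase Y.hom (x ≫ (bcSub φ)) =
      lift (NilAction.toBase Y.hom x) (Over.homMk T.hom rfl : Over.mk (T.hom ≫ Y.hom) ⟶ Y) ≫ φ := by
  refine Over.OverMorphism.ext ?_
  show (x.left ≫ pullback.lift φ.left (snd (Red.DS S F) Y).left _) ≫ pullback.fst G.hom Y.hom = _
  rw [Category.assoc, pullback.lift_fst, Over.comp_left]
  congr 1
  apply pullback.hom_ext
  · exact (congrArg (fun m : _ ⟶ Red.DS S F => m.left) (lift_fst (NilAction.toBase Y.hom x)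
      (Over.homMk T.hom rfl : Over.mk (T.hom ≫ Y.hom) ⟶ Y))).symm
  · exact (Over.w x).trans (congrArg (fun m : _ ⟶ Y => m.left) (lift_snd (NilAction.toBase Y.hom x)
      (Over.homMk T.hom rfl : Over.mk (T.hom ≫ Y.hom) ⟶ Y))).symm

variable [GrpObj G]

theorem isMonHom_sub (φ : Red.DS S F ⊗ Y ⟶ G) (h : AutFam.IsHomFamily (Red.DS S F) G φ) :
    IsMonHom (bcSub φ) := by
  refine Bridge.isMonHom_of_mul _ fun T a b => ?_
  have h1 : NilAction.toBase Y.hom ((a * b) ≫ (bcSub φ)) =
      NilAction.toBase Y.hom ((a ≫ (bcSub φ)) *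
        (b ≫ (bcSub φ))) := by
    rw [toBase_comp_sub, NilAction.toBase_mul, NilAction.toBase_mul, toBase_comp_sub, toBase_comp_sub]
    exact h _ _ _ _
  rw [← NilAction.ofBase_toBase Y.hom ((a * b) ≫ (bcSub φ)), h1,
    NilAction.ofBase_toBase]

omit [GrpObj G] in
theorem exists_sub_eq (H : Red.bc Y.hom (Red.DS S F) ⟶ Red.bc Y.hom G) :
    ∃ φ : Red.DS S F ⊗ Y ⟶ G, (bcSub φ) = H := by
  refine ⟨Over.homMk (H.left ≫ pullback.fst G.hom Y.hom) ?_, Over.OverMorphism.ext (pullback.hom_ext ?_ ?_)⟩
  · rw [← Over.w (snd (Red.DS S F) Y), Category.assoc, pullback.condition, ← Category.assoc]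
    exact congrArg (· ≫ Y.hom) (Over.w H)
  · exact pullback.lift_fst _ _ _
  · exact (pullback.lift_snd _ _ _).trans (Over.w H).symm

theorem isHomFamily_of_isMonHom (φ : Red.DS S F ⊗ Y ⟶ G)
    [IsMonHom (bcSub φ)] :
    AutFam.IsHomFamily (Red.DS S F) G φ := by
  intro T z z' t
  let T' : Over Y.left := Over.mk t.left
  let i : Over.mk (T'.hom ≫ Y.hom) ≅ T := Over.isoMk (Iso.refl _) ((Category.id_comp _).trans (Over.w t).symm)
  have hi : i.hom ≫ t = Over.homMk T'.hom rfl := Over.OverMorphism.ext (Category.id_comp _)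
  let x := NilAction.ofBase Y.hom (i.hom ≫ z)
  let x' := NilAction.ofBase Y.hom (i.hom ≫ z')
  have h := congrArg (NilAction.toBase Y.hom)
    (MonObj.mul_comp x x' (bcSub φ))
  rw [toBase_comp_sub, NilAction.toBase_mul, NilAction.toBase_mul, toBase_comp_sub, toBase_comp_sub,
    NilAction.toBase_ofBase, NilAction.toBase_ofBase, ← hi, ← MonObj.comp_mul, ← comp_lift, ← comp_lift,
    ← comp_lift, Category.assoc, Category.assoc, Category.assoc, ← MonObj.comp_mul] at h
  exact (cancel_epi i.hom).1 h

theorem monoFam_of_mono (φ : Red.DS S F ⊗ Y ⟶ G)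
    [IsMonHom (bcSub φ)]
    [Mono (bcSub φ)] : MonoFam φ := by
  intro T t z hz
  let T' : Over Y.left := Over.mk t.left
  let i : Over.mk (T'.hom ≫ Y.hom) ≅ T := Over.isoMk (Iso.refl _) ((Category.id_comp _).trans (Over.w t).symm)
  have hi : i.hom ≫ t = Over.homMk T'.hom rfl := Over.OverMorphism.ext (Category.id_comp _)
  let x := NilAction.ofBase Y.hom (i.hom ≫ z)
  have h1 : x ≫ (bcSub φ) =
      (1 : T' ⟶ _) ≫ (bcSub φ) := by
    rw [MonObj.one_comp,
      ← NilAction.ofBase_toBase Y.hom (x ≫ (bcSub φ)),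
      toBase_comp_sub, NilAction.toBase_ofBase, ← hi, ← comp_lift, Category.assoc, hz, MonObj.comp_one,
      ← NilAction.toBase_one Y.hom, NilAction.ofBase_toBase]
  have h2 := congrArg (NilAction.toBase Y.hom) (((cancel_mono _).1 h1 : x = 1))
  rw [NilAction.toBase_ofBase, NilAction.toBase_one] at h2
  rwa [← cancel_epi i.hom, MonObj.comp_one]

section BaseChange

omit [GrpObj G]
variable {M : Over S} {K : Over M.left} (j : K ⟶ Red.bc M.hom G) {Z : Over S} (c : Z ⟶ M)

/-- pulling a subscheme back along a morphism of parameter schemes -/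
theorem mem_bc_iff {T : Over S} (a : T ⟶ Z) (g : T ⟶ G) :
    Mem ((Over.pullback c.left).map j ≫ (ActBC.bcCompIso c.left M.hom G (Over.w c)).hom) a g ↔
      Mem j (a ≫ c) g := by
  have key : ((Over.pullback c.left).map j ≫ (ActBC.bcCompIso c.left M.hom G (Over.w c)).hom).left ≫
      pullback.fst G.hom Z.hom = pullback.fst K.hom c.left ≫ j.left ≫ pullback.fst G.hom M.hom := by
    rw [Over.comp_left, Category.assoc, ActBC.bcCompIso_hom_left_fst, ActBC.pullback_map_left_fst_assoc]
  constructor
  · rintro ⟨z, h1, h2⟩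
    refine ⟨z ≫ pullback.fst K.hom c.left, ?_, ?_⟩
    · show _ = a.left ≫ c.left
      rw [Category.assoc, pullback.condition, ← h1]
      exact (Category.assoc _ _ _).symm
    · rw [Category.assoc, ← key]
      exact h2
  · rintro ⟨z, h1, h2⟩
    refine ⟨pullback.lift z a.left h1, pullback.lift_snd _ _ _, ?_⟩
    rw [key]
    exact (pullback.lift_fst_assoc _ _ _ _).trans h2

theorem mem_iso_comp_iff {K₁ : Over M.left} (e : K₁ ⟶ K) [IsIso e] {T : Over S} (v : T ⟶ M) (g : T ⟶ G) :
    Mem (e ≫ j) v g ↔ Mem j v g := by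
  haveI : IsIso e.left := inferInstanceAs (IsIso ((Over.forget _).map e))
  constructor
  · rintro ⟨z, h1, h2⟩
    exact ⟨z ≫ e.left, by rw [Category.assoc, Over.w e, h1], by
      rw [Category.assoc]; exact ((congrArg (z ≫ ·) (Category.assoc _ _ _)).symm).trans h2⟩
  · rintro ⟨z, h1, h2⟩
    refine ⟨z ≫ inv e.left, ?_, ?_⟩
    · rw [← Over.w e, Category.assoc, IsIso.inv_hom_id_assoc, h1]
    · rw [Over.comp_left, Category.assoc, Category.assoc, IsIso.inv_hom_id_assoc, h2]

end BaseChange

end Groth.L24.FinSub
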