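import Groth.Agent.L25.SplitSub.KernelLocal
import Groth.Agent.L25.SplitSub.LocalChar
import Groth.Agent.L25.Bridge.TorsionLift
import Groth.Prelude.Def_AutFam

/-!
# Families of homomorphisms out of diagonalisable groups

The homomorphism of groups over the parameter scheme defined by a family, the open locus of trivial kernel, and the
local form of families of homomorphisms between diagonalisable groups.
-/

set_option autoImplicit false
universe u

open CategoryTheory CategoryTheory.Limits MonoidalCategory CartesianMonoidalCategory AlgebraicGeometry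
open TopologicalSpace
open scoped MonObj

set_option backward.isDefEq.respectTransparency.types false
set_option linter.style.haveILetI false

noncomputable section

namespace Groth.L24.FinSub

open Groth.L25 Groth.L25.SplitSub

variable {S : Scheme.{u}}

section Fam

variable {F : Type} [AddCommGroup F] {Y G : Over S}

/-- the morphism over the parameter scheme defined by a family -/
def famHom (φ : Red.DS S F ⊗ Y ⟶ G) : Red.DS Y.left F ⟶ Red.bc Y.hom G :=
  (bcDS Y.hom).inv ≫ NilAction.ofBase Y.hom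
    (lift (NilAction.toBase Y.hom (𝟙 (Red.bc Y.hom (Red.DS S F))))
      (Over.homMk (Red.bc Y.hom (Red.DS S F)).hom rfl :
        Over.mk ((Red.bc Y.hom (Red.DS S F)).hom ≫ Y.hom) ⟶ Y) ≫ φ)

theorem toBase_comp {T T' : Over Y.left} (x : T ⟶ T') (w : T' ⟶ Red.bc Y.hom G) :
    NilAction.toBase Y.hom (x ≫ w) =
      (Over.homMk x.left (by show x.left ≫ T'.hom ≫ Y.hom = T.hom ≫ Y.hom; rw [← Category.assoc, Over.w x]) :
        Over.mk (T.hom ≫ Y.hom) ⟶ Over.mk (T'.hom ≫ Y.hom)) ≫ NilAction.toBase Y.hom w :=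
  Over.OverMorphism.ext (Category.assoc _ _ _)

theorem toBase_famHom (φ : Red.DS S F ⊗ Y ⟶ G) {T : Over Y.left} (x : T ⟶ Red.DS Y.left F) :
    NilAction.toBase Y.hom (x ≫ famHom φ) =
      lift (downPt Y.hom x) (Over.homMk T.hom rfl : Over.mk (T.hom ≫ Y.hom) ⟶ Y) ≫ φ := by
  rw [famHom, ← Category.assoc, toBase_comp, NilAction.toBase_ofBase, ← Category.assoc, comp_lift]
  congr 1
  apply CartesianMonoidalCategory.hom_ext
  · simp only [lift_fst]
    rw [downPt, ← toBase_comp, Category.comp_id]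
  · simp only [lift_snd]
    exact Over.OverMorphism.ext (Over.w (x ≫ (bcDS Y.hom).inv))

/-- a point over `Y` as a point over the base -/
theorem exists_down {T : Over S} (a : T ⟶ Y) (z : T ⟶ Red.DS S F) :
    ∃ (T' : Over Y.left) (x : T' ⟶ Red.DS Y.left F) (i : Over.mk (T'.hom ≫ Y.hom) ≅ T),
      downPt Y.hom x = i.hom ≫ z ∧
      (Over.homMk T'.hom rfl : Over.mk (T'.hom ≫ Y.hom) ⟶ Y) = i.hom ≫ a := by
  obtain ⟨T', x, i, hi, hT⟩ := exists_upPt Y.hom
    (Over.homMk a.left (Over.w a) : T ⟶ Over.mk Y.hom) z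
  exact ⟨T', x, i, hi.symm, Over.OverMorphism.ext hT⟩

variable [GrpObj G]

theorem isMonHom_famHom (φ : Red.DS S F ⊗ Y ⟶ G) (hφ : AutFam.IsHomFamily (Red.DS S F) G φ) :
    IsMonHom (famHom φ) := by
  refine Bridge.isMonHom_of_mul _ fun T a b => ?_
  have h : NilAction.toBase Y.hom ((a * b) ≫ famHom φ) =
      NilAction.toBase Y.hom ((a ≫ famHom φ) * (b ≫ famHom φ)) := by
    have hd : downPt Y.hom (a * b) = downPt Y.hom a * downPt Y.hom b := by
      refine DSPts.char_injective ?_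
      rw [char_downPt, DSPts.char_mul, DSPts.char_mul, char_downPt, char_downPt]
    rw [toBase_famHom, NilAction.toBase_mul, toBase_famHom, toBase_famHom, hd]
    exact hφ _ _ _ _
  rw [← NilAction.ofBase_toBase Y.hom ((a * b) ≫ famHom φ), h, NilAction.ofBase_toBase]

theorem comp_famHom_eq_one_iff (φ : Red.DS S F ⊗ Y ⟶ G) {T : Over Y.left} (x : T ⟶ Red.DS Y.left F) :
    x ≫ famHom φ = 1 ↔
      lift (downPt Y.hom x) (Over.homMk T.hom rfl : Over.mk (T.hom ≫ Y.hom) ⟶ Y) ≫ φ = 1 := by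
  rw [← toBase_famHom]
  refine ⟨fun h => by rw [h, NilAction.toBase_one], fun h => ?_⟩
  rw [← NilAction.ofBase_toBase Y.hom (x ≫ famHom φ), h, ← NilAction.toBase_one Y.hom, NilAction.ofBase_toBase]

/-- a family of homomorphisms with trivial kernel -/
def MonoFam {Z : Over S} (φ : Red.DS S F ⊗ Z ⟶ G) : Prop :=
  ∀ (T : Over S) (a : T ⟶ Z) (z : T ⟶ Red.DS S F), lift z a ≫ φ = 1 → z = 1

theorem MonoFam.cancel {Z : Over S} {φ : Red.DS S F ⊗ Z ⟶ G} (h : MonoFam φ)
    (hφ : AutFam.IsHomFamily (Red.DS S F) G φ) {T : Over S} {a : T ⟶ Z} {z z' : T ⟶ Red.DS S F}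
    (e : lift z a ≫ φ = lift z' a ≫ φ) : z = z' := by
  have h1 : lift (z / z') a ≫ φ = 1 := by
    have h2 := hφ T (z / z') z' a
    rw [div_mul_cancel, e] at h2
    exact right_eq_mul.1 h2
  exact div_eq_one.1 (h T a _ h1)

theorem comp_whisker {Z : Over S} (φ : Red.DS S F ⊗ Y ⟶ G) (t : Z ⟶ Y) {T : Over S} (a : T ⟶ Z)
    (z : T ⟶ Red.DS S F) : lift z a ≫ (Red.DS S F ◁ t) ≫ φ = lift z (a ≫ t) ≫ φ := by
  rw [lift_whiskerLeft_assoc]

variable (φ : Red.DS S F ⊗ Y ⟶ G)

/-- the locus of trivial kernel -/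
def monoLocus : Y.left.Opens :=
  ⟨{y | ∃ U : Y.left.Opens, y ∈ U ∧ Good (famHom φ) (U : Set Y.left) ⊤}, by
    rw [isOpen_iff_forall_mem_open]
    rintro y ⟨U, hy, hU⟩
    exact ⟨U, fun z hz => ⟨U, hz, hU⟩, U.2, hy⟩⟩

variable [IsSeparated G.hom] [LocallyOfFinitePresentation G.hom] [QuasiCompact G.hom]

theorem isClosed_monoLocus (hφ : AutFam.IsHomFamily (Red.DS S F) G φ) :
    IsClosed (monoLocus φ : Set Y.left) := by
  have := isMonHom_famHom φ hφ
  haveI : IsSeparated (Red.bc Y.hom G).hom := MorphismProperty.pullback_snd _ _ ‹IsSeparated G.hom›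
  haveI : LocallyOfFinitePresentation (Red.bc Y.hom G).hom :=
    MorphismProperty.pullback_snd _ _ ‹LocallyOfFinitePresentation G.hom›
  haveI : QuasiCompact (Red.bc Y.hom G).hom := MorphismProperty.pullback_snd _ _ ‹QuasiCompact G.hom›
  rw [← isOpen_compl_iff, isOpen_iff_forall_mem_open]
  intro y hy
  obtain ⟨U, hyU, A, -, hA⟩ := exists_good_of_separated (famHom φ) y
  refine ⟨U, fun z hz ⟨U', hz', hU'⟩ => hy ⟨U, hyU, ?_⟩, U.2, hyU⟩
  rwa [hU'.unique _ hA hz' hz]

theorem monoFam_iff (hφ : AutFam.IsHomFamily (Red.DS S F) G φ) {Z : Over S} (t : Z ⟶ Y) :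
    MonoFam ((Red.DS S F ◁ t) ≫ φ) ↔ ∀ z, t.left z ∈ monoLocus φ := by
  have := isMonHom_famHom φ hφ
  constructor
  · intro h y
    haveI : IsSeparated (Red.bc Y.hom G).hom := MorphismProperty.pullback_snd _ _ ‹IsSeparated G.hom›
    haveI : LocallyOfFinitePresentation (Red.bc Y.hom G).hom :=
      MorphismProperty.pullback_snd _ _ ‹LocallyOfFinitePresentation G.hom›
    haveI : QuasiCompact (Red.bc Y.hom G).hom := MorphismProperty.pullback_snd _ _ ‹QuasiCompact G.hom›
    obtain ⟨U, hyU, A, -, hA⟩ := exists_good_of_separated (famHom φ) (t.left y)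
    refine ⟨U, hyU, ?_⟩
    suffices hA' : A = ⊤ by rwa [hA'] at hA
    refine top_le_iff.1 (le_of_kills (K := Z.left.residueField y) A ⊤ fun T x hx => ?_)
    let g : Spec (Z.left.residueField y) ⟶ Y.left := Z.left.fromSpecResidueField y ≫ t.left
    have hT : ∀ w, (T.hom ≫ g) w ∈ (U : Set Y.left) := fun w => by
      simp only [g, Scheme.Hom.comp_apply]
      erw [Scheme.fromSpecResidueField_apply]
      exact hyU
    have h1 := (comp_famHom_eq_one_iff φ (downPt g x)).1
      ((hA _ hT (downPt g x)).2 ((kills_downPt_iff g x A).2 hx))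
    let a : Over.mk ((T.hom ≫ g) ≫ Y.hom) ⟶ Z := Over.homMk (T.hom ≫ Z.left.fromSpecResidueField y) (by
      show (T.hom ≫ Z.left.fromSpecResidueField y) ≫ Z.hom = (T.hom ≫ g) ≫ Y.hom
      simp only [g, Category.assoc, Over.w t])
    have h2 := h _ a (downPt Y.hom (downPt g x)) (by
      rw [comp_whisker]
      refine Eq.trans ?_ h1
      congr 2)
    rw [← kills_downPt_iff g, ← kills_downPt_iff Y.hom, kills_top_iff]
    exact h2
  · intro h T a z hz
    rw [comp_whisker] at hz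
    obtain ⟨T', x, i, hi, hT'⟩ := exists_down (a ≫ t) z
    rw [← comp_eq_one_iso_iff i, ← hi, ← kills_top_iff, kills_downPt_iff]
    have hx1 : x ≫ famHom φ = 1 := by
      rw [comp_famHom_eq_one_iff, hi, hT', ← comp_lift, Category.assoc, hz, MonObj.comp_one]
    have hrange : ∀ w, T'.hom w ∈ monoLocus φ := fun w => by
      have h1 : T'.hom = i.hom.left ≫ a.left ≫ t.left := congrArg (fun m : _ ⟶ Y => m.left) hT'
      rw [h1, Scheme.Hom.comp_apply, Scheme.Hom.comp_apply]
      exact h _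
    choose U hU hgood using hrange
    let c : ∀ w, Over.mk ((T'.hom ⁻¹ᵁ U w).ι ≫ T'.hom) ⟶ T' := fun w => Over.homMk (T'.hom ⁻¹ᵁ U w).ι rfl
    haveI : ∀ w, Flat (c w).left := fun w => inferInstanceAs (Flat (T'.hom ⁻¹ᵁ U w).ι)
    exact Kills.of_cover c (fun w => ⟨w, ⟨w, hU w⟩, rfl⟩) fun w =>
      (hgood w (Over.mk ((T'.hom ⁻¹ᵁ U w).ι ≫ T'.hom)) (fun v => v.2) (c w ≫ x)).1 (by rw [Category.assoc, hx1, MonObj.comp_one])

end Fam

section DS

variable {F F' : Type} [AddCommGroup F] [AddCommGroup F']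

/-- over a nonempty base a map of diagonalisable groups determines the map of characters -/
theorem addHom_ext {Y : Over S} (y : Y.left) (φ ψ : F' →+ F)
    (h : ∀ (T : Over S) (_ : T ⟶ Y) (z : T ⟶ Red.DS S F), z ≫ Red.DSmap S φ = z ≫ Red.DSmap S ψ) : φ = ψ := by
  refine sub_eq_zero.1 (AddMonoidHom.range_eq_bot_iff.1 (le_bot_iff.1 ?_))
  refine le_of_kills (K := Y.left.residueField y) ⊥ (φ - ψ).range fun T x _ => ?_
  let g : Spec (Y.left.residueField y) ⟶ S := Y.left.fromSpecResidueField y ≫ Y.hom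
  have h1 := congrArg DSPts.char (h _ (Over.homMk (T.hom ≫ Y.left.fromSpecResidueField y)
    (Category.assoc _ _ _) : Over.mk (T.hom ≫ g) ⟶ Y) (downPt g x))
  rw [char_DSmap, char_DSmap, char_downPt] at h1
  rintro _ ⟨n, rfl⟩
  have h2 := DFunLike.congr_fun h1 (Multiplicative.ofAdd n)
  change DSPts.char x (Multiplicative.ofAdd (φ n)) = DSPts.char x (Multiplicative.ofAdd (ψ n)) at h2
  rw [AddMonoidHom.sub_apply, sub_eq_add_neg, ofAdd_add, map_mul, h2, ← map_mul, ← ofAdd_add,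
    add_neg_cancel, ofAdd_zero, map_one]

/-- the local form of a family of homomorphisms between diagonalisable groups -/
theorem exists_local_map (hF' : AddGroup.FG F') {Y : Over S} (α : Red.DS S F ⊗ Y ⟶ Red.DS S F')
    (hα : AutFam.IsHomFamily (Red.DS S F) (Red.DS S F') α) (y : Y.left) :
    ∃ U : Y.left.Opens, y ∈ U ∧ ∃ φ : F' →+ F, ∀ (T : Over S) (a : T ⟶ Y), (∀ w, a.left w ∈ U) →
      ∀ z : T ⟶ Red.DS S F, lift z a ≫ α = z ≫ Red.DSmap S φ := by
  have := isMonHom_famHom α hα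
  haveI : Monoid.FG (Multiplicative F') := AddMonoid.fg_iff_mul_fg.1 (AddGroup.fg_iff_addMonoid_fg.1 hF')
  have : IsMonHom (bcDS (N := F') Y.hom).hom := isMonHom_bcDS _
  obtain ⟨U, hU, φ, hφ⟩ := exists_local_DSmap (famHom α ≫ (bcDS Y.hom).hom) y
  refine ⟨U, hU, φ, fun T a ha z => ?_⟩
  obtain ⟨T', x, i, hi, hT'⟩ := exists_down a z
  rw [← cancel_epi i.hom, ← Category.assoc, ← Category.assoc, comp_lift, ← hi, ← hT', ← toBase_famHom]
  refine DSPts.char_injective ?_
  rw [← char_bcDS, Category.assoc, char_DSmap, char_downPt, hφ T' (fun w => ?_) x, char_DSmap]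
  have h1 : T'.hom = i.hom.left ≫ a.left := congrArg (fun m : _ ⟶ Y => m.left) hT'
  rw [h1, Scheme.Hom.comp_apply]
  exact ha _

end DS

end Groth.L24.FinSub
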