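import Groth.Agent.L24.FinSub.Quot
import Groth.Agent.L24.FinSub.Chart
import Groth.Agent.L25.Extend.EtaleSplit
import Groth.Agent.L25.MonoClosed.Main
import Groth.Agent.L08.TorusWeights.Global

/-!
# The scheme of finite subgroups of multiplicative type of an affine group
-/

set_option autoImplicit false
universe u

open CategoryTheory CategoryTheory.Limits MonoidalCategory CartesianMonoidalCategory AlgebraicGeometry
open scoped MonObj

set_option backward.isDefEq.respectTransparency.types false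
set_option linter.style.haveILetI false

noncomputable section

namespace Groth.L24.FinSub

open Groth.L25 Groth.L25.SplitSub

variable {S : Scheme.{u}} (G : Over S) [GrpObj G] [IsAffineHom G.hom]

/-- a choice of piece for every isomorphism type -/
structure Data where
  /-- monomorphisms -/
  X : Types.{u} → Over S
  /-- the universal family -/
  υ : ∀ i, Red.DS S (grpOf i) ⊗ X i ⟶ G
  /-- subgroups of the given type -/
  M : Types.{u} → Over S
  /-- the quotient map -/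
  p : ∀ i, X i ⟶ M i
  /-- the universal subgroup -/
  K : ∀ i, Over (M i).left
  /-- the inclusion -/
  j : ∀ i, K i ⟶ Red.bc (M i).hom G
  piece : ∀ i, Piece (grpOf i) (X i) (υ i)
  quot : ∀ i, QuotPiece (grpOf i) (X i) (υ i) (M i) (p i) (K i) (j i)

theorem nonempty_data [LocallyOfFinitePresentation G.hom] : Nonempty (Data G) := by
  choose X υ hX using fun i : Types.{u} => exists_piece (S := S) (G := G) (grpOf i)
  choose M p K j hq using fun i => exists_quotPiece (hX i)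
  exact ⟨⟨X, υ, M, p, K, j, hX, hq⟩⟩

variable {G} (D : Data G)

theorem exists_sigma_ι (f : Types.{u} → Scheme.{u}) (x : ↥(∐ f)) :
    ∃ (i : Types.{u}) (z : f i), Sigma.ι f i z = x :=
  (sigmaOpenCover f).exists_eq x

namespace Data

/-- the sum of the pieces -/
abbrev tot : Over S := Over.mk (Sigma.desc fun i => (D.M i).hom)

/-- the inclusion of a piece -/
abbrev inc (i : Types.{u}) : D.M i ⟶ D.tot :=
  Over.homMk (Sigma.ι (fun i => (D.M i).left) i) (Sigma.ι_desc _ _)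

/-- the universal subgroup on the sum -/
abbrev totK : Over D.tot.left := Over.mk (Limits.Sigma.map fun i => (D.K i).hom)

/-- its inclusion -/
def totj : D.totK ⟶ Red.bc D.tot.hom G :=
  Over.homMk (pullback.lift (Sigma.desc fun i => (D.j i).left ≫ pullback.fst G.hom (D.M i).hom)
    (Limits.Sigma.map fun i => (D.K i).hom) (Sigma.hom_ext _ _ fun i => by
      have hw : (D.j i).left ≫ pullback.snd G.hom (D.M i).hom = (D.K i).hom := Over.w (D.j i)
      simp only [tot, Over.mk_hom, Sigma.ι_desc_assoc, Limits.Sigma.ι_map_assoc, Sigma.ι_desc, Category.assoc,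
        pullback.condition, reassoc_of% hw])) (pullback.lift_snd _ _ _)

instance (i : Types.{u}) : IsOpenImmersion (D.inc i).left :=
  inferInstanceAs (IsOpenImmersion (Sigma.ι (fun i => (D.M i).left) i))

theorem preimage_range (i : Types.{u}) :
    (Limits.Sigma.map fun i => (D.K i).hom) ⁻¹ᵁ (D.inc i).left.opensRange =
      (Sigma.ι (fun i => (D.K i).left) i).opensRange := by
  ext x
  obtain ⟨k, z, rfl⟩ := exists_sigma_ι (fun i => (D.K i).left) x
  have h : (Limits.Sigma.map fun i => (D.K i).hom) (Sigma.ι (fun i => (D.K i).left) k z) =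
      Sigma.ι (fun i => (D.M i).left) k ((D.K k).hom z) := by
    rw [← Scheme.Hom.comp_apply, Limits.Sigma.ι_map, Scheme.Hom.comp_apply]
  constructor
  · rintro ⟨w, hw⟩
    obtain ⟨rfl, -⟩ := Sigma.mk.inj_iff.1 ((sigmaι_eq_iff (fun i => (D.M i).left) i k w _).1 (hw.trans h))
    exact ⟨z, rfl⟩
  · rintro ⟨w, hw⟩
    obtain ⟨rfl, -⟩ := Sigma.mk.inj_iff.1 ((sigmaι_eq_iff (fun i => (D.K i).left) i k w z).1 hw)
    exact ⟨_, h.symm⟩

theorem isPullback_totK (i : Types.{u}) :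
    IsPullback (Sigma.ι (fun i => (D.K i).left) i) (D.K i).hom D.totK.hom (D.inc i).left :=
  (IsOpenImmersion.isPullback (D.K i).hom (Sigma.ι (fun i => (D.K i).left) i) (D.inc i).left D.totK.hom
    (Limits.Sigma.ι_map (p := fun i => (D.K i).hom) i) (D.preimage_range i)).flip

/-- the piece of the base change of `G` -/
def incG (i : Types.{u}) : pullback G.hom (D.M i).hom ⟶ pullback G.hom D.tot.hom :=
  pullback.lift (pullback.fst G.hom (D.M i).hom) (pullback.snd G.hom (D.M i).hom ≫ (D.inc i).left) (by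
    rw [Category.assoc, Over.w (D.inc i)]
    exact pullback.condition)

theorem isPullback_incG (i : Types.{u}) :
    IsPullback (D.incG i) (pullback.snd G.hom (D.M i).hom) (pullback.snd G.hom D.tot.hom) (D.inc i).left := by
  refine IsPullback.of_right (h₁₂ := pullback.fst G.hom D.tot.hom) (v₁₃ := G.hom) (h₂₂ := D.tot.hom) ?_
    (pullback.lift_snd _ _ _) (IsPullback.of_hasPullback G.hom D.tot.hom)
  rw [incG, pullback.lift_fst, Over.w (D.inc i)]
  exact IsPullback.of_hasPullback G.hom (D.M i).hom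

theorem isClosedImmersion_totj : IsClosedImmersion D.totj.left := by
  have hoi : ∀ i, IsOpenImmersion (D.incG i) := fun i =>
    MorphismProperty.of_isPullback (P := @IsOpenImmersion) (D.isPullback_incG i).flip inferInstance
  let 𝒰 : (pullback G.hom D.tot.hom).OpenCover := Scheme.Cover.mkOfCovers Types.{u}
    (fun i => pullback G.hom (D.M i).hom) D.incG (fun x => by
      obtain ⟨i, z, hz⟩ := exists_sigma_ι (fun i => (D.M i).left) (pullback.snd G.hom D.tot.hom x)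
      obtain ⟨w, hw, -⟩ := Scheme.Pullback.exists_preimage_pullback
        (f := pullback.snd G.hom D.tot.hom) (g := (D.inc i).left) x z hz.symm
      refine ⟨i, (D.isPullback_incG i).isoPullback.inv w, ?_⟩
      rw [← Scheme.Hom.comp_apply, (D.isPullback_incG i).isoPullback_inv_fst]
      exact hw) hoi
  refine IsZariskiLocalAtTarget.of_openCover (P := @IsClosedImmersion) 𝒰 fun (i : Types.{u}) => ?_
  have hjw : D.totj.left ≫ pullback.snd G.hom D.tot.hom = D.totK.hom := Over.w D.totj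
  have hiw : (D.j i).left ≫ pullback.snd G.hom (D.M i).hom = (D.K i).hom := Over.w (D.j i)
  have hK : IsPullback (Sigma.ι (fun i => (D.K i).left) i) ((D.j i).left ≫ pullback.snd G.hom (D.M i).hom)
      (D.totj.left ≫ pullback.snd G.hom D.tot.hom) (D.inc i).left := by
    rw [hjw, hiw]
    exact D.isPullback_totK i
  have sq : IsPullback (Sigma.ι (fun i => (D.K i).left) i) (D.j i).left D.totj.left (D.incG i) := by
    refine IsPullback.of_bot hK ?_ (D.isPullback_incG i)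
    apply pullback.hom_ext
    · simp only [Category.assoc, totj, Over.homMk_left, pullback.lift_fst, incG, Sigma.ι_desc]
    · simp only [Category.assoc, hjw, incG, pullback.lift_snd, reassoc_of% hiw]
      exact (D.isPullback_totK i).w
  have h1 : IsClosedImmersion (pullback.snd D.totj.left (D.incG i)) := by
    haveI := (D.quot i).closed
    rw [← sq.isoPullback_inv_snd]
    infer_instance
  exact h1

theorem isFinite_totK : IsFinite D.totK.hom := by
  refine IsZariskiLocalAtTarget.of_openCover (P := @IsFinite) (sigmaOpenCover fun i => (D.M i).left) fun (i : Types.{u}) => ?_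
  have h1 : IsFinite (pullback.snd D.totK.hom (D.inc i).left) := by
    haveI := (D.quot i).finite
    rw [← (D.isPullback_totK i).isoPullback_inv_snd]
    infer_instance
  exact h1

theorem mem_inc_iff (i : Types.{u}) {Y : Over S} (v : Y ⟶ D.M i) (g : Y ⟶ G) :
    Mem D.totj (v ≫ D.inc i) g ↔ Mem (D.j i) v g := by
  have hf : D.totj.left ≫ pullback.fst G.hom D.tot.hom =
      Sigma.desc fun i => (D.j i).left ≫ pullback.fst G.hom (D.M i).hom := pullback.lift_fst _ _ _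
  constructor
  · rintro ⟨z, h1, h2⟩
    refine ⟨(D.isPullback_totK i).lift z v.left h1, (D.isPullback_totK i).lift_snd _ _ _, ?_⟩
    rw [← h2, hf]
    conv_rhs => rw [← (D.isPullback_totK i).lift_fst z v.left h1, Category.assoc, Sigma.ι_desc]
  · rintro ⟨z, h1, h2⟩
    refine ⟨z ≫ Sigma.ι (fun i => (D.K i).left) i, ?_, ?_⟩
    · show (z ≫ _) ≫ Limits.Sigma.map (fun i => (D.K i).hom) = v.left ≫ (D.inc i).left
      rw [Category.assoc, Limits.Sigma.ι_map, reassoc_of% h1]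
      rfl
    · rw [Category.assoc, hf, Sigma.ι_desc]
      exact h2

theorem mem_lift_iff (i : Types.{u}) {Y : Over S} (a : Y ⟶ D.X i) (g : Y ⟶ G) :
    Mem D.totj (a ≫ D.p i ≫ D.inc i) g ↔ Img (D.υ i) a g := by
  rw [← Category.assoc, mem_inc_iff, (D.quot i).mem_iff]

theorem exists_fac {Y : Over S} (v : Y ⟶ D.tot) (y : Y.left) :
    ∃ (i : Types.{u}) (U : Y.left.Opens) (u : Over.mk (U.ι ≫ Y.hom) ⟶ D.M i), y ∈ U ∧
      (Over.homMk U.ι rfl : Over.mk (U.ι ≫ Y.hom) ⟶ Y) ≫ v = u ≫ D.inc i := by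
  obtain ⟨i, z, hz⟩ := exists_sigma_ι (fun i => (D.M i).left) (v.left y)
  let U := v.left ⁻¹ᵁ (D.inc i).left.opensRange
  let u := IsOpenImmersion.lift (D.inc i).left (U.ι ≫ v.left) (by rintro _ ⟨w, rfl⟩; exact w.2)
  refine ⟨i, U, Over.homMk u ?_, ⟨z, hz⟩, Over.OverMorphism.ext (IsOpenImmersion.lift_fac _ _ _).symm⟩
  show u ≫ (D.M i).hom = U.ι ≫ Y.hom
  rw [← Over.w (D.inc i), IsOpenImmersion.lift_fac_assoc, Category.assoc, Over.w v]

theorem exists_lift (i : Types.{u}) {Y : Over S} (u : Y ⟶ D.M i) :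
    ∃ (Y' : Over S) (c : Y' ⟶ Y) (a : Y' ⟶ D.X i), EffectiveEpi c.left ∧ Surjective c.left ∧
      c ≫ u = a ≫ D.p i := by
  haveI := (D.quot i).etale
  haveI := (D.quot i).surjective
  refine ⟨Over.mk (pullback.fst u.left (D.p i).left ≫ Y.hom), Over.homMk (pullback.fst u.left (D.p i).left) rfl,
    Over.homMk (pullback.snd u.left (D.p i).left) ?_, ?_, ?_, Over.OverMorphism.ext pullback.condition⟩
  · show _ = pullback.fst u.left (D.p i).left ≫ Y.hom
    rw [← Over.w (D.p i), ← pullback.condition_assoc, Over.w u]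
  · exact Descent.effectiveEpi_pullback_fst u.left (D.p i).left (Groth.L08.Borel.cover_of_lfp _)
  · exact MorphismProperty.pullback_fst u.left (D.p i).left ‹Surjective (D.p i).left›

theorem mem_of_lift {Y : Over S} (v : Y ⟶ D.tot) (g : Y ⟶ G)
    (h : ∀ (Y' : Over S) (c : Y' ⟶ Y) (i : Types.{u}) (a : Y' ⟶ D.X i), c ≫ v = a ≫ D.p i ≫ D.inc i →
      Img (D.υ i) a (c ≫ g)) : Mem D.totj v g := by
  haveI := D.isClosedImmersion_totj
  choose i U u hyU hu using D.exists_fac v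
  refine Mem.of_openCover D.totj U (fun y => ⟨y, hyU y⟩) fun y => ?_
  obtain ⟨Y', c, a, hc, -, hca⟩ := D.exists_lift (i y) (u y)
  haveI := hc
  let r : Over.mk ((U y).ι ≫ Y.hom) ⟶ Y := Over.homMk (U y).ι rfl
  have e : (c ≫ r) ≫ v = a ≫ D.p (i y) ≫ D.inc (i y) := by
    rw [Category.assoc, hu y, reassoc_of% hca]
  refine Mem.of_epi D.totj c ?_
  rw [← Category.assoc, ← Category.assoc, e, mem_lift_iff]
  exact h Y' (c ≫ r) (i y) a e

theorem exists_grp : ∃ _ : GrpObj D.totK, IsMonHom D.totj := by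
  haveI := D.isClosedImmersion_totj
  refine FinSub.exists_grp D.totj (fun Y v => D.mem_of_lift v 1 fun Y' c i a _ => ?_)
    (fun Y v g g' hg hg' => D.mem_of_lift v _ fun Y' c i a e => ?_)
    (fun Y v g hg => D.mem_of_lift v _ fun Y' c i a e => ?_)
  · refine ⟨1, ?_⟩
    have := (D.piece i).hom Y' 1 1 a
    rw [one_mul] at this
    rw [MonObj.comp_one]
    exact left_eq_mul.1 this
  · have h1 := hg.comp _ c
    have h2 := hg'.comp _ c
    rw [e, mem_lift_iff] at h1 h2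
    obtain ⟨z, hz⟩ := h1
    obtain ⟨z', hz'⟩ := h2
    exact ⟨z * z', by rw [(D.piece i).hom, hz, hz', MonObj.comp_mul]⟩
  · have h1 := hg.comp _ c
    rw [e, mem_lift_iff] at h1
    obtain ⟨z, hz⟩ := h1
    refine ⟨z⁻¹, ?_⟩
    have h2 := (D.piece i).hom Y' z⁻¹ z a
    have h3 := (D.piece i).hom Y' 1 1 a
    rw [one_mul] at h3
    rw [inv_mul_cancel, left_eq_mul.1 h3, hz] at h2
    rw [GrpObj.comp_inv]
    exact eq_inv_of_mul_eq_one_left h2.symm

theorem eq_of_img {i k : Types.{u}} (hik : i = k) {Y : Over S} (a : Y ⟶ D.X i) (b : Y ⟶ D.X k)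
    (h : ∀ (T : Over S) (t : T ⟶ Y) (g : T ⟶ G), Img (D.υ i) (t ≫ a) g ↔ Img (D.υ k) (t ≫ b) g) :
    a ≫ D.p i ≫ D.inc i = b ≫ D.p k ≫ D.inc k := by
  subst hik
  rw [← Category.assoc, ← Category.assoc b, ((D.quot i).comp_eq_iff Y a b).2 h]

theorem pt_ext {Y : Over S} (v₁ v₂ : Y ⟶ D.tot)
    (h : ∀ (T : Over S) (t : T ⟶ Y) (g : T ⟶ G), Mem D.totj (t ≫ v₁) g ↔ Mem D.totj (t ≫ v₂) g) : v₁ = v₂ := by
  choose i₁ U₁ u₁ hy₁ hu₁ using D.exists_fac v₁
  choose i₂ U₂ u₂ hy₂ hu₂ using D.exists_fac v₂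
  let 𝒰 : Y.left.OpenCover := Scheme.Cover.mkOfCovers Y.left (fun y => (U₁ y ⊓ U₂ y).toScheme)
    (fun y => (U₁ y ⊓ U₂ y).ι) (fun y => ⟨y, ⟨y, hy₁ y, hy₂ y⟩, rfl⟩) (fun _ => inferInstance)
  refine Over.OverMorphism.ext (Scheme.Cover.hom_ext 𝒰 _ _ fun y => ?_)
  let Z : Over S := Over.mk ((U₁ y ⊓ U₂ y).ι ≫ Y.hom)
  let r : Z ⟶ Y := Over.homMk (U₁ y ⊓ U₂ y).ι rfl
  let r₁ : Z ⟶ Over.mk ((U₁ y).ι ≫ Y.hom) := Over.homMk (Y.left.homOfLE inf_le_left) (by simp [Z])
  let r₂ : Z ⟶ Over.mk ((U₂ y).ι ≫ Y.hom) := Over.homMk (Y.left.homOfLE inf_le_right) (by simp [Z])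
  obtain ⟨Z₁, c₁, a, hc₁, hs₁, ha⟩ := D.exists_lift (i₁ y) (r₁ ≫ u₁ y)
  obtain ⟨Z₂, c₂, b, hc₂, hs₂, hb⟩ := D.exists_lift (i₂ y) (c₁ ≫ r₂ ≫ u₂ y)
  haveI := hc₁
  haveI := hc₂
  have e₁ : (c₂ ≫ a) ≫ D.p (i₁ y) ≫ D.inc (i₁ y) = c₂ ≫ c₁ ≫ r ≫ v₁ := by
    rw [Category.assoc, ← reassoc_of% ha, ← hu₁ y]
    congr 2
    rw [← Category.assoc]
    congr 1
    exact Over.OverMorphism.ext (Scheme.homOfLE_ι _ inf_le_left)
  have e₂ : b ≫ D.p (i₂ y) ≫ D.inc (i₂ y) = c₂ ≫ c₁ ≫ r ≫ v₂ := by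
    rw [← reassoc_of% hb, ← hu₂ y]
    congr 2
    rw [← Category.assoc]
    congr 1
    exact Over.OverMorphism.ext (Scheme.homOfLE_ι _ inf_le_right)
  have hI : ∀ (T : Over S) (t : T ⟶ Z₂) (g : T ⟶ G),
      Img (D.υ (i₁ y)) (t ≫ c₂ ≫ a) g ↔ Img (D.υ (i₂ y)) (t ≫ b) g := fun T t g => by
    rw [← D.mem_lift_iff, ← D.mem_lift_iff, Category.assoc, e₁, Category.assoc, e₂]
    simpa only [Category.assoc] using h T (t ≫ c₂ ≫ c₁ ≫ r) g
  obtain ⟨z₁, hz₁⟩ := hs₁.surj (⟨y, hy₁ y, hy₂ y⟩ : (U₁ y ⊓ U₂ y).toScheme)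
  obtain ⟨z₂, hz₂⟩ := hs₂.surj z₁
  obtain ⟨-, -, e, -⟩ := exists_local_iso (D.piece (i₁ y)) (D.piece (i₂ y)) (c₂ ≫ a) b hI z₂
  suffices hh : c₂ ≫ c₁ ≫ r ≫ v₁ = c₂ ≫ c₁ ≫ r ≫ v₂ by
    have h1 := congrArg (fun m => m.left) hh
    simp only [Over.comp_left] at h1
    exact (cancel_epi c₁.left).1 ((cancel_epi c₂.left).1 h1)
  rw [← e₁, ← e₂]
  exact D.eq_of_img (types_ext e.symm) (c₂ ≫ a) b hI

theorem exists_clopen (m : D.tot.left) :
    ∃ U : D.tot.left.Opens, m ∈ U ∧ IsClosed (U : Set D.tot.left) ∧ IsAffineHom (U.ι ≫ D.tot.hom) := by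
  obtain ⟨i, z, hz⟩ := exists_sigma_ι (fun i => (D.M i).left) m
  refine ⟨(D.inc i).left.opensRange, ⟨z, hz⟩, ⟨?_⟩, ?_⟩
  · rw [isOpen_iff_forall_mem_open]
    intro x hx
    obtain ⟨k, w, rfl⟩ := exists_sigma_ι (fun i => (D.M i).left) x
    refine ⟨((D.inc k).left.opensRange : Set D.tot.left), ?_, (D.inc k).left.opensRange.2, ⟨w, rfl⟩⟩
    rintro _ ⟨w', rfl⟩ ⟨w'', hw''⟩
    refine hx ?_
    obtain ⟨rfl, -⟩ := Sigma.mk.inj_iff.1 ((sigmaι_eq_iff (fun i => (D.M i).left) i k w'' w').1 hw'')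
    exact ⟨w, rfl⟩
  · haveI := (D.quot i).affine
    let U := (D.inc i).left.opensRange
    let φ := IsOpenImmersion.lift (D.inc i).left U.ι (by
      rintro _ ⟨w, rfl⟩; exact w.2)
    haveI : IsIso φ := by
      haveI : IsOpenImmersion (φ ≫ (D.inc i).left) := by rw [IsOpenImmersion.lift_fac]; infer_instance
      haveI : IsOpenImmersion φ := IsOpenImmersion.of_comp φ (D.inc i).left
      haveI : Surjective φ := ⟨fun w => by
        refine ⟨⟨(D.inc i).left w, ⟨w, rfl⟩⟩, (D.inc i).left.isOpenEmbedding.injective ?_⟩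
        rw [← Scheme.Hom.comp_apply, IsOpenImmersion.lift_fac]
        rfl⟩
      haveI : Epi φ.base := (TopCat.epi_iff_surjective _).2 φ.surjective
      exact IsOpenImmersion.isIso φ
    have hφ : φ ≫ (D.M i).hom = U.ι ≫ D.tot.hom := by
      rw [← Over.w (D.inc i), IsOpenImmersion.lift_fac_assoc]
    rw [← hφ]
    infer_instance

theorem locallyOfFinitePresentation_tot : LocallyOfFinitePresentation D.tot.hom :=
  IsZariskiLocalAtSource.sigmaDesc fun i => (D.quot i).lfp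

theorem nonempty_totK_iso [GrpObj D.totK] [IsMonHom D.totj] (i : Types.{u}) :
    Nonempty (Grp.mk (Red.bc (D.p i ≫ D.inc i).left D.totK) ≅ Grp.mk (Red.DS (D.X i).left (grpOf i))) := by
  haveI := D.isClosedImmersion_totj
  let c := D.p i ≫ D.inc i
  let ci := ActBC.bcCompIso c.left D.tot.hom G (Over.w c)
  let j₁ : Red.bc c.left D.totK ⟶ Red.bc (D.X i).hom G := (Over.pullback c.left).map D.totj ≫ ci.hom
  let j₂ : Red.bc (D.X i).hom (Red.DS S (grpOf i)) ⟶ Red.bc (D.X i).hom G := bcSub (D.υ i)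
  haveI : IsMonHom ((Over.pullback c.left).map D.totj) := MonoClosed.isMonHom_pullbackMap _ _
  haveI : IsMonHom ci.hom := (Grp.mkIso' ci).hom.hom.isMonHom_hom
  haveI : IsMonHom j₁ := inferInstanceAs (IsMonHom ((Over.pullback c.left).map D.totj ≫ ci.hom))
  haveI : IsMonHom j₂ := isMonHom_sub _ (D.piece i).hom
  haveI : IsIso ci.hom.left := inferInstanceAs (IsIso ((Over.forget _).map ci.hom))
  haveI : Mono D.totj := Over.mono_of_mono_left _
  haveI : Mono j₁ := inferInstanceAs (Mono ((Over.pullback c.left).map D.totj ≫ ci.hom))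
  haveI : Mono j₁.left := inferInstance
  haveI : Mono j₂.left := (D.piece i).mono_sub
  haveI : Mono j₂ := Over.mono_of_mono_left _
  obtain ⟨φ, hφ⟩ := FinSub.exists_iso j₁ j₂ fun Y a g => by
    rw [mem_bc_iff, mem_lift_iff]
    exact (mem_sub_iff a g).symm
  have : IsMonHom φ.hom := Bridge.isMonHom_of_mul φ.hom fun Y a b => by
    rw [← cancel_mono j₂, Category.assoc, hφ, MonObj.mul_comp, MonObj.mul_comp, Category.assoc, Category.assoc, hφ]
  have : IsMonHom (bcDS (N := grpOf i) (D.X i).hom).hom := isMonHom_bcDS _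
  exact ⟨Grp.mkIso' φ ≪≫ Grp.mkIso' (bcDS (D.X i).hom)⟩

theorem isMultTypeFT_totK [GrpObj D.totK] [IsMonHom D.totj] : SGA3x.IsMultTypeFT D.totK := by
  refine Groth.L08.TorusWeights.isMultTypeFT_of_etale fun s => ?_
  obtain ⟨i, z, hz⟩ := exists_sigma_ι (fun i => (D.M i).left) s
  haveI := (D.quot i).etale
  haveI := (D.quot i).surjective
  obtain ⟨x, hx⟩ := (D.p i).left.surjective z
  let c := D.p i ≫ D.inc i
  haveI het : Etale c.left := inferInstanceAs (Etale ((D.p i).left ≫ (D.inc i).left))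
  refine ⟨(D.X i).left, c.left, x, grpOf i, inferInstance, het, ?_, fg_of_finite _, ?_⟩
  · show ((D.p i).left ≫ (D.inc i).left) x = s
    rw [Scheme.Hom.comp_apply, hx]
    exact hz
  exact D.nonempty_totK_iso i

section Universal

variable {T : Scheme.{u}} {f : T ⟶ S} {K' : Over T} [GrpObj K'] (j' : K' ⟶ Red.bc f G) [IsMonHom j'] [Mono j'.left]

theorem exists_chart (hK' : SGA3x.IsMultTypeFT K') [IsFinite K'.hom] (x : T) :
    ∃ (T₁ : Scheme.{u}) (π : T₁ ⟶ T) (_ : Etale π) (w : Over.mk (π ≫ f) ⟶ D.tot), x ∈ Set.range π ∧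
      ∀ (Y : Over S) (t : Y ⟶ Over.mk (π ≫ f)) (g : Y ⟶ G),
        Mem (M := Over.mk f) j' (t ≫ Over.homMk π rfl) g ↔ Mem D.totj (t ≫ w) g := by
  obtain ⟨T₁, π, hπ, ⟨x₁, hx₁⟩, M, instM, hM, ⟨e⟩⟩ := Extend.exists_etale_split hK' x
  letI := instM
  let e₀ : Red.bc π K' ≅ Red.DS T₁ M := (Grp.forget _).mapIso e
  haveI : IsMonHom e₀.hom := e.hom.hom.isMonHom_hom
  haveI : IsMonHom e₀.inv := e.inv.hom.isMonHom_hom
  haveI : Finite M := by
    refine finite_of_isFinite_DS (T := T₁) ?_ x₁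
    haveI : IsFinite (Red.bc π K').hom := MorphismProperty.pullback_snd _ _ ‹IsFinite K'.hom›
    haveI : IsIso e₀.inv.left := inferInstanceAs (IsIso ((Over.forget _).map e₀.inv))
    rw [← Over.w e₀.inv]
    infer_instance
  obtain ⟨i, ⟨ε⟩⟩ := exists_type.{u} M
  let Y₁ : Over S := Over.mk (π ≫ f)
  let c : Y₁ ⟶ Over.mk f := Over.homMk π rfl
  let m : Red.DS T₁ (grpOf i) ⟶ Red.DS T₁ M := Red.DSmap T₁ (ε.symm : M →+ grpOf i)
  have hm1 : m ≫ Red.DSmap T₁ (ε : grpOf i →+ M) = 𝟙 _ := by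
    rw [TorusTorsion.DSmap_comp, show (ε.symm : M →+ grpOf i).comp (ε : grpOf i →+ M) = AddMonoidHom.id _ from
      AddMonoidHom.ext fun a => ε.symm_apply_apply a, TorusTorsion.DSmap_id]
  have hm2 : Red.DSmap T₁ (ε : grpOf i →+ M) ≫ m = 𝟙 _ := by
    rw [TorusTorsion.DSmap_comp, show (ε : grpOf i →+ M).comp (ε.symm : M →+ grpOf i) = AddMonoidHom.id _ from
      AddMonoidHom.ext fun a => ε.apply_symm_apply a, TorusTorsion.DSmap_id]
  haveI : IsIso m := ⟨_, hm1, hm2⟩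
  haveI : IsMonHom m := TorusTorsion.isMonHom_DSmap _ _
  let ci := ActBC.bcCompIso π f G (d := π ≫ f) rfl
  haveI : IsMonHom ci.hom := (Grp.mkIso' ci).hom.hom.isMonHom_hom
  let d : Red.bc (π ≫ f) (Red.DS S (grpOf i)) ≅ Red.DS T₁ (grpOf i) := bcDS _
  haveI : IsMonHom d.hom := isMonHom_bcDS _
  haveI : IsMonHom ((Over.pullback π).map j') := MonoClosed.isMonHom_pullbackMap _ _
  let q : Red.bc (π ≫ f) (Red.DS S (grpOf i)) ⟶ Red.bc π K' := d.hom ≫ m ≫ e₀.inv
  haveI : IsMonHom q := inferInstanceAs (IsMonHom (d.hom ≫ m ≫ e₀.inv))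
  haveI : IsIso q := inferInstanceAs (IsIso (d.hom ≫ m ≫ e₀.inv))
  let H : Red.bc (π ≫ f) (Red.DS S (grpOf i)) ⟶ Red.bc (π ≫ f) G := q ≫ (Over.pullback π).map j' ≫ ci.hom
  haveI : IsMonHom H := inferInstanceAs (IsMonHom (q ≫ (Over.pullback π).map j' ≫ ci.hom))
  haveI : Mono j' := Over.mono_of_mono_left _
  haveI : Mono H := inferInstanceAs (Mono (q ≫ (Over.pullback π).map j' ≫ ci.hom))
  obtain ⟨φ, hφ⟩ := exists_sub_eq (Y := Y₁) H
  have hφ' : bcSub φ = H := hφ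
  haveI : IsMonHom (bcSub φ) := by rw [hφ']; infer_instance
  haveI : Mono (bcSub φ) := by rw [hφ']; infer_instance
  obtain ⟨a, ha⟩ := (D.piece i).exists_pt Y₁ φ (isHomFamily_of_isMonHom φ) (monoFam_of_mono φ)
  refine ⟨T₁, π, hπ, a ≫ D.p i ≫ D.inc i, ⟨x₁, hx₁⟩, fun Y t g => ?_⟩
  rw [show t ≫ a ≫ D.p i ≫ D.inc i = (t ≫ a) ≫ D.p i ≫ D.inc i by simp, mem_lift_iff]
  have h1 : Img (D.υ i) (t ≫ a) g ↔ Img φ t g := exists_congr fun z => by
    rw [← ha, lift_whiskerLeft_assoc]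
  rw [h1, ← mem_sub_iff]
  show _ ↔ Mem (bcSub φ) t g
  rw [hφ']
  show _ ↔ Mem (M := Y₁) (q ≫ (Over.pullback π).map j' ≫ ci.hom) t g
  rw [mem_iso_comp_iff (M := Y₁)]
  exact (mem_bc_iff (M := Over.mk f) j' c t g).symm

theorem exists_map (hK' : SGA3x.IsMultTypeFT K') [IsFinite K'.hom] :
    ∃ v : Over.mk f ⟶ D.tot, ∀ (Y : Over S) (t : Y ⟶ Over.mk f) (g : Y ⟶ G),
      Mem (M := Over.mk f) j' t g ↔ Mem D.totj (t ≫ v) g := by
  haveI := D.isClosedImmersion_totj
  choose T₁ π hπ w hx hw using fun x : T => D.exists_chart j' hK' x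
  let σ : (∐ T₁) ⟶ T := Sigma.desc π
  haveI : Etale σ := IsZariskiLocalAtSource.sigmaDesc (P := @Etale) hπ
  haveI : Surjective σ := ⟨fun x => by
    obtain ⟨x₁, hx₁⟩ := hx x
    exact ⟨Sigma.ι T₁ x x₁, by rw [← Scheme.Hom.comp_apply, Sigma.ι_desc]; exact hx₁⟩⟩
  haveI : EffectiveEpi σ := Descent.effectiveEpi_of_cover σ (Groth.L08.Borel.cover_of_lfp σ)
  let Y₀ : Over S := Over.mk (σ ≫ f)
  let c : Y₀ ⟶ Over.mk f := Over.homMk σ rfl
  let w₀ : Y₀ ⟶ D.tot := Over.homMk (Sigma.desc fun x => (w x).left) (Sigma.hom_ext _ _ fun x => by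
    rw [Sigma.ι_desc_assoc, Over.w (w x)]
    show π x ≫ f = Sigma.ι T₁ x ≫ σ ≫ f
    rw [Sigma.ι_desc_assoc])
  have hw₀ : ∀ (Y : Over S) (s : Y ⟶ Y₀) (g : Y ⟶ G),
      Mem (M := Over.mk f) j' (s ≫ c) g ↔ Mem D.totj (s ≫ w₀) g := by
    intro Y s g
    let U : T → Y.left.Opens := fun x => s.left ⁻¹ᵁ (Sigma.ι T₁ x).opensRange
    have hU : ∀ y, ∃ x, y ∈ U x := fun y => by
      obtain ⟨x, z, hz⟩ := (sigmaOpenCover T₁).exists_eq (s.left y)
      exact ⟨x, z, hz⟩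
    have key : ∀ x, ∃ s₁ : Over.mk ((U x).ι ≫ Y.hom) ⟶ Over.mk (π x ≫ f),
        (Over.homMk (U x).ι rfl : Over.mk ((U x).ι ≫ Y.hom) ⟶ Y) ≫ s ≫ c = s₁ ≫ (Over.homMk (π x) rfl : Over.mk (π x ≫ f) ⟶ Over.mk f) ∧
        (Over.homMk (U x).ι rfl : Over.mk ((U x).ι ≫ Y.hom) ⟶ Y) ≫ s ≫ w₀ = s₁ ≫ w x := fun x => by
      let l := IsOpenImmersion.lift (Sigma.ι T₁ x) ((U x).ι ≫ s.left) (by rintro _ ⟨z, rfl⟩; exact z.2)
      have hl : l ≫ Sigma.ι T₁ x = (U x).ι ≫ s.left := IsOpenImmersion.lift_fac _ _ _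
      have h1 : l ≫ π x = (U x).ι ≫ s.left ≫ σ := by rw [← reassoc_of% hl, Sigma.ι_desc]
      refine ⟨Over.homMk l ?_, Over.OverMorphism.ext h1.symm, Over.OverMorphism.ext ?_⟩
      · show l ≫ π x ≫ f = (U x).ι ≫ Y.hom
        rw [reassoc_of% h1]
        exact congrArg ((U x).ι ≫ ·) (Over.w s)
      · show (U x).ι ≫ s.left ≫ Sigma.desc (fun x => (w x).left) = l ≫ (w x).left
        rw [← reassoc_of% hl, Sigma.ι_desc]
    choose s₁ hs₁ hs₁' using key
    constructor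
    · intro h
      refine Mem.of_openCover D.totj U hU fun x => ?_
      rw [hs₁' x, ← hw x _ (s₁ x), ← hs₁ x]
      exact h.comp _ _
    · intro h
      refine Mem.of_openCover (M := Over.mk f) j' U hU fun x => ?_
      rw [hs₁ x, hw x _ (s₁ x), ← hs₁' x]
      exact h.comp _ _
  let v₀ := EffectiveEpi.desc σ w₀.left fun {Z} g₁ g₂ e => by
    let W : Over S := Over.mk (g₁ ≫ σ ≫ f)
    let G₁ : W ⟶ Y₀ := Over.homMk g₁ rfl
    let G₂ : W ⟶ Y₀ := Over.homMk g₂ (by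
      show g₂ ≫ σ ≫ f = g₁ ≫ σ ≫ f
      rw [← reassoc_of% e])
    have hG : G₁ ≫ c = G₂ ≫ c := Over.OverMorphism.ext e
    exact congrArg (fun m => m.left) (D.pt_ext (G₁ ≫ w₀) (G₂ ≫ w₀) fun Y t g => by
      rw [← Category.assoc, ← hw₀, ← Category.assoc t, ← hw₀, Category.assoc, hG, Category.assoc])
  have hv₀ : σ ≫ v₀ = w₀.left := EffectiveEpi.fac _ _ _
  let v : Over.mk f ⟶ D.tot := Over.homMk v₀ (by
    show v₀ ≫ D.tot.hom = f
    rw [← cancel_epi σ, reassoc_of% hv₀]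
    exact Over.w w₀)
  refine ⟨v, fun Y t g => ?_⟩
  let Y' : Over S := Over.mk (pullback.fst t.left σ ≫ Y.hom)
  let c' : Y' ⟶ Y := Over.homMk (pullback.fst t.left σ) rfl
  haveI : EffectiveEpi c'.left :=
    Descent.effectiveEpi_pullback_fst t.left σ (Groth.L08.Borel.cover_of_lfp σ)
  let s : Y' ⟶ Y₀ := Over.homMk (pullback.snd t.left σ) (by
    show pullback.snd t.left σ ≫ σ ≫ f = pullback.fst t.left σ ≫ Y.hom
    rw [← pullback.condition_assoc]
    exact congrArg (pullback.fst t.left σ ≫ ·) (Over.w t))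
  have hs : s ≫ c = c' ≫ t := Over.OverMorphism.ext pullback.condition.symm
  have hs' : s ≫ w₀ = c' ≫ t ≫ v := by
    rw [← reassoc_of% hs]
    exact Over.OverMorphism.ext (congrArg (pullback.snd t.left σ ≫ ·) hv₀.symm)
  constructor
  · intro h
    refine Mem.of_epi D.totj c' ?_
    rw [← hs', ← hw₀, hs]
    exact h.comp _ c'
  · intro h
    refine Mem.of_epi (M := Over.mk f) j' c' ?_
    rw [← hs, hw₀, hs']
    exact h.comp _ c'

end Universal

end Data

end Groth.L24.FinSub
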