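import Groth.Agent.L25.NilAction
import Groth.Agent.L25.Locus.Smooth
import Groth.Agent.L25.Locus.CentNorm
import Groth.Agent.L25.Bridge.TorsionLift
import Groth.Agent.L25.Descent.EffEpi

/-!
# Membership of points in a subscheme of a base change

A subscheme `j : K ⟶ G ×_S M` over `M` is handled through the set of pairs of an `S`-morphism to `M` and a point of
`G` whose pair factors through it.
-/

set_option autoImplicit false
universe u

open CategoryTheory CategoryTheory.Limits MonoidalCategory CartesianMonoidalCategory AlgebraicGeometry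
open scoped MonObj

set_option backward.isDefEq.respectTransparency.types false
set_option linter.style.haveILetI false

noncomputable section

namespace Groth.L24.FinSub

open Groth.L25

variable {S : Scheme.{u}} {M G : Over S} {K : Over M.left} (j : K ⟶ Red.bc M.hom G)

/-- the pair factors through the subscheme -/
def Mem {Y : Over S} (v : Y ⟶ M) (g : Y ⟶ G) : Prop :=
  ∃ z : Y.left ⟶ K.left, z ≫ K.hom = v.left ∧ z ≫ j.left ≫ pullback.fst G.hom M.hom = g.left

theorem Mem.comp {Y Y' : Over S} {v : Y ⟶ M} {g : Y ⟶ G} (h : Mem j v g) (c : Y' ⟶ Y) :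
    Mem j (c ≫ v) (c ≫ g) := by
  obtain ⟨z, h1, h2⟩ := h
  exact ⟨c.left ≫ z, by rw [Category.assoc, h1]; rfl, by rw [Category.assoc, h2]; rfl⟩

theorem ext [Mono j.left] {Y : Scheme.{u}} (z z' : Y ⟶ K.left) (h1 : z ≫ K.hom = z' ≫ K.hom)
    (h2 : z ≫ j.left ≫ pullback.fst G.hom M.hom = z' ≫ j.left ≫ pullback.fst G.hom M.hom) : z = z' := by
  have hw : j.left ≫ pullback.snd G.hom M.hom = K.hom := Over.w j
  rw [← cancel_mono j.left]
  apply pullback.hom_ext
  · simpa only [Category.assoc] using h2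
  · simp only [Category.assoc, hw]
    exact h1

theorem Mem.of_epi [Mono j.left] {Y Y' : Over S} (c : Y' ⟶ Y) [EffectiveEpi c.left] {v : Y ⟶ M} {g : Y ⟶ G}
    (h : Mem j (c ≫ v) (c ≫ g)) : Mem j v g := by
  obtain ⟨z, h1, h2⟩ := h
  have h1' : z ≫ K.hom = c.left ≫ v.left := h1
  have h2' : z ≫ j.left ≫ pullback.fst G.hom M.hom = c.left ≫ g.left := h2
  let z₀ := EffectiveEpi.desc c.left z fun a b e => ext j _ _
    (by rw [Category.assoc, Category.assoc, h1', reassoc_of% e])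
    (by rw [Category.assoc, Category.assoc, h2', reassoc_of% e])
  refine ⟨z₀, ?_, ?_⟩
  · rw [← cancel_epi c.left, EffectiveEpi.fac_assoc, h1']
  · rw [← cancel_epi c.left, EffectiveEpi.fac_assoc, h2']

theorem Mem.of_openCover [Mono j.left] {Y : Over S} {I : Type u} (U : I → Y.left.Opens)
    (hU : ∀ y, ∃ i, y ∈ U i) {v : Y ⟶ M} {g : Y ⟶ G}
    (h : ∀ i, Mem j ((Over.homMk (U i).ι rfl : Over.mk ((U i).ι ≫ Y.hom) ⟶ Y) ≫ v)
      ((Over.homMk (U i).ι rfl : Over.mk ((U i).ι ≫ Y.hom) ⟶ Y) ≫ g)) : Mem j v g := by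
  choose z h1 h2 using h
  have h1' : ∀ i, z i ≫ K.hom = (U i).ι ≫ v.left := h1
  have h2' : ∀ i, z i ≫ j.left ≫ pullback.fst G.hom M.hom = (U i).ι ≫ g.left := h2
  let 𝒰 : Y.left.OpenCover := Scheme.Cover.mkOfCovers I (fun i => (U i).toScheme) (fun i => (U i).ι)
    (fun y => by obtain ⟨i, hi⟩ := hU y; exact ⟨i, ⟨y, hi⟩, rfl⟩) (fun _ => inferInstance)
  let z₀ := 𝒰.glueMorphisms z fun i k => ext j _ _
    (by rw [Category.assoc, Category.assoc]
        exact ((congrArg (pullback.fst _ _ ≫ ·) (h1' i)).trans (pullback.condition_assoc _)).trans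
          (congrArg (pullback.snd _ _ ≫ ·) (h1' k)).symm)
    (by rw [Category.assoc, Category.assoc]
        exact ((congrArg (pullback.fst _ _ ≫ ·) (h2' i)).trans (pullback.condition_assoc _)).trans
          (congrArg (pullback.snd _ _ ≫ ·) (h2' k)).symm)
  have hz : ∀ i, (U i).ι ≫ z₀ = z i := fun i => Scheme.Cover.ι_glueMorphisms 𝒰 _ _ i
  refine ⟨z₀, Scheme.Cover.hom_ext 𝒰 _ _ fun i => ?_, Scheme.Cover.hom_ext 𝒰 _ _ fun i => ?_⟩
  · show (U i).ι ≫ z₀ ≫ K.hom = (U i).ι ≫ v.left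
    rw [reassoc_of% hz i, h1']
  · show (U i).ι ≫ z₀ ≫ j.left ≫ pullback.fst G.hom M.hom = (U i).ι ≫ g.left
    rw [reassoc_of% hz i, h2']

theorem mem_toBase_iff {T : Over M.left} (x : T ⟶ Red.bc M.hom G) :
    (∃ w, w ≫ j = x) ↔ Mem j (Over.homMk T.hom rfl : Over.mk (T.hom ≫ M.hom) ⟶ M)
      (NilAction.toBase M.hom x) := by
  have hw : j.left ≫ pullback.snd G.hom M.hom = K.hom := Over.w j
  constructor
  · rintro ⟨w, rfl⟩
    exact ⟨w.left, Over.w w, (Category.assoc _ _ _).symm⟩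
  · rintro ⟨z, h1, h2⟩
    refine ⟨Over.homMk z h1, Over.OverMorphism.ext (pullback.hom_ext ?_ ?_)⟩
    · exact (Category.assoc _ _ _).trans h2
    · show (z ≫ j.left) ≫ pullback.snd G.hom M.hom = x.left ≫ pullback.snd G.hom M.hom
      rw [Category.assoc, hw]
      exact h1.trans (Over.w x).symm

theorem mem_iff_exists {Y : Over S} (v : Y ⟶ M) (g : Y ⟶ G) :
    Mem j v g ↔ ∃ w, w ≫ j = NilAction.ofBase (Y := Over.mk v.left) M.hom
      ((Over.isoMk (Iso.refl _) ((Category.id_comp _).trans (Over.w v).symm) :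
        Over.mk (v.left ≫ M.hom) ≅ Y).hom ≫ g) := by
  rw [mem_toBase_iff, NilAction.toBase_ofBase]
  constructor
  · rintro ⟨z, h1, h2⟩
    exact ⟨z, h1, h2.trans (Category.id_comp _).symm⟩
  · rintro ⟨z, h1, h2⟩
    exact ⟨z, h1, h2.trans (Category.id_comp _)⟩

section Group

variable [GrpObj G]

theorem exists_grp [Mono j.left] (h1 : ∀ (Y : Over S) (v : Y ⟶ M), Mem j v 1)
    (hm : ∀ (Y : Over S) (v : Y ⟶ M) (g g' : Y ⟶ G), Mem j v g → Mem j v g' → Mem j v (g * g'))
    (hi : ∀ (Y : Over S) (v : Y ⟶ M) (g : Y ⟶ G), Mem j v g → Mem j v g⁻¹) :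
    ∃ _ : GrpObj K, IsMonHom j := by
  have : Mono j := Over.mono_of_mono_left j
  refine Locus.exists_subgroup j (fun T x => Mem j (Over.homMk T.hom rfl : Over.mk (T.hom ≫ M.hom) ⟶ M)
    (NilAction.toBase M.hom x)) (fun T x => mem_toBase_iff j x) ?_ (fun T x y hx hy => ?_) fun T x hx => ?_
  · rw [NilAction.toBase_one]
    exact h1 _ _
  · rw [NilAction.toBase_mul]
    exact hm _ _ _ _ hx hy
  · have h2 : NilAction.toBase M.hom x⁻¹ = (NilAction.toBase M.hom x)⁻¹ := by
      refine eq_inv_of_mul_eq_one_left ?_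
      rw [← NilAction.toBase_mul, inv_mul_cancel, NilAction.toBase_one]
    rw [h2]
    exact hi _ _ _ hx

end Group

/-- two subschemes with the same points are isomorphic -/
theorem exists_iso {K' : Over M.left} (j' : K' ⟶ Red.bc M.hom G) [Mono j.left] [Mono j'.left]
    (h : ∀ (Y : Over S) (v : Y ⟶ M) (g : Y ⟶ G), Mem j v g ↔ Mem j' v g) :
    ∃ φ : K ≅ K', φ.hom ≫ j' = j := by
  have : Mono j := Over.mono_of_mono_left j
  have : Mono j' := Over.mono_of_mono_left j'
  exact Locus.exists_iso_of_points j j' fun T x =>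
    ((mem_toBase_iff j x).trans (h _ _ _)).trans (mem_toBase_iff j' x).symm

section Compare

variable {T : Scheme.{u}} {f : T ⟶ S} {K' : Over T} (j' : K' ⟶ Red.bc f G) (v : T ⟶ M.left) (hv : v ≫ M.hom = f)

/-- equality of points gives the isomorphism with the pullback -/
theorem exists_iso_pullback [Mono j.left] [Mono j'.left]
    (h : ∀ (Y : Over S) (t : Y ⟶ Over.mk f) (g : Y ⟶ G),
      Mem (M := Over.mk f) j' t g ↔ Mem j (t ≫ Over.homMk v hv) g) :
    ∃ φ : K'.left ≅ (Red.bc v K).left,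
      φ.hom ≫ (Red.bc v K).hom = K'.hom ∧
      φ.hom ≫ ((Over.pullback v).map j).left ≫ pullback.fst (Red.bc M.hom G).hom v ≫ pullback.fst G.hom M.hom =
        j'.left ≫ pullback.fst G.hom f := by
  have hw' : j'.left ≫ pullback.snd G.hom f = K'.hom := Over.w j'
  have hw : j.left ≫ pullback.snd G.hom M.hom = K.hom := Over.w j
  let Y₁ : Over S := Over.mk (K'.hom ≫ f)
  obtain ⟨z₁, hz₁, hz₁'⟩ := (h Y₁ (Over.homMk K'.hom rfl) (Over.homMk (j'.left ≫ pullback.fst G.hom f) (by
    show (j'.left ≫ pullback.fst G.hom f) ≫ G.hom = K'.hom ≫ f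
    rw [Category.assoc, pullback.condition, reassoc_of% hw']))).1 ⟨𝟙 _, Category.id_comp _, Category.id_comp _⟩
  have hz₁w : z₁ ≫ K.hom = K'.hom ≫ v := hz₁
  let Y₂ : Over S := Over.mk (pullback.snd K.hom v ≫ f)
  obtain ⟨z₂, hz₂, hz₂'⟩ := (h Y₂ (Over.homMk (pullback.snd K.hom v) rfl)
    (Over.homMk (pullback.fst K.hom v ≫ j.left ≫ pullback.fst G.hom M.hom) (by
      show (pullback.fst K.hom v ≫ j.left ≫ pullback.fst G.hom M.hom) ≫ G.hom = pullback.snd K.hom v ≫ f
      rw [Category.assoc, Category.assoc, pullback.condition, reassoc_of% hw, pullback.condition_assoc, hv]))).2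
    ⟨pullback.fst K.hom v, pullback.condition, rfl⟩
  have hz₂w : z₂ ≫ K'.hom = pullback.snd K.hom v := hz₂
  have hz₁f : z₁ ≫ j.left ≫ pullback.fst G.hom M.hom = j'.left ≫ pullback.fst G.hom f := hz₁'
  have hz₂f : z₂ ≫ j'.left ≫ pullback.fst G.hom f = pullback.fst K.hom v ≫ j.left ≫ pullback.fst G.hom M.hom := hz₂'
  let a : K'.left ⟶ pullback K.hom v := pullback.lift z₁ K'.hom hz₁w
  have haz : a ≫ z₂ = 𝟙 _ := ext (M := Over.mk f) j' _ _
    (by rw [Category.assoc, hz₂w, pullback.lift_snd, Category.id_comp])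
    (by
      show (a ≫ z₂) ≫ j'.left ≫ pullback.fst G.hom f = 𝟙 _ ≫ j'.left ≫ pullback.fst G.hom f
      rw [Category.assoc, hz₂f, pullback.lift_fst_assoc, hz₁f, Category.id_comp])
  have hza : z₂ ≫ a = 𝟙 _ := by
    apply pullback.hom_ext
    · rw [Category.assoc, pullback.lift_fst, Category.id_comp]
      refine ext j _ _ ?_ ?_
      · rw [Category.assoc, hz₁w, reassoc_of% hz₂w, pullback.condition]
      · rw [Category.assoc, hz₁f, hz₂f]
    · rw [Category.assoc, pullback.lift_snd, hz₂w, Category.id_comp]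
  refine ⟨⟨a, z₂, haz, hza⟩, pullback.lift_snd _ _ _, ?_⟩
  show a ≫ ((Over.pullback v).map j).left ≫ _ = _
  rw [ActBC.pullback_map_left_fst_assoc, pullback.lift_fst_assoc]
  exact hz₁f

/-- the isomorphism with the pullback gives equality of points -/
theorem mem_iff_of_iso (φ : K'.left ≅ (Red.bc v K).left) (h1 : φ.hom ≫ (Red.bc v K).hom = K'.hom)
    (h2 : φ.hom ≫ ((Over.pullback v).map j).left ≫ pullback.fst (Red.bc M.hom G).hom v ≫ pullback.fst G.hom M.hom =
        j'.left ≫ pullback.fst G.hom f) {Y : Over S} (t : Y ⟶ Over.mk f) (g : Y ⟶ G) :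
    Mem (M := Over.mk f) j' t g ↔ Mem j (t ≫ Over.homMk v hv) g := by
  have h1' : φ.hom ≫ pullback.snd K.hom v = K'.hom := h1
  have h2' : φ.hom ≫ pullback.fst K.hom v ≫ j.left ≫ pullback.fst G.hom M.hom = j'.left ≫ pullback.fst G.hom f := by
    rw [← h2, ActBC.pullback_map_left_fst_assoc]
  constructor
  · rintro ⟨z, hz, hz'⟩
    refine ⟨z ≫ φ.hom ≫ pullback.fst K.hom v, ?_, ?_⟩
    · show _ = t.left ≫ v
      simp only [Category.assoc, pullback.condition, reassoc_of% h1', reassoc_of% hz]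
    · simp only [Category.assoc, h2']
      exact hz'
  · rintro ⟨z, hz, hz'⟩
    refine ⟨pullback.lift z t.left hz ≫ φ.inv, ?_, ?_⟩
    · rw [Category.assoc, ← h1']
      erw [φ.inv_hom_id_assoc, pullback.lift_snd]
    · show _ ≫ j'.left ≫ pullback.fst G.hom f = _
      rw [Category.assoc, ← h2']
      erw [φ.inv_hom_id_assoc, pullback.lift_fst_assoc]
      exact hz'

end Compare

end Groth.L24.FinSub
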