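import Groth.Agent.L24.FinSub.Fam
import Groth.Agent.L24.FinSub.Mem
import Groth.Agent.L25.HomScheme.Hom
import Groth.Agent.L25.HomScheme.MultFlat
import Groth.Agent.L25.Locus.Torus
import Groth.Agent.L25.Locus.CentNorm
import Groth.Agent.L27.Quot.Exists
import Groth.Agent.L27.Quot.Torsor
import Groth.Agent.L27.Quot.Desc
import Groth.Agent.L23.SourceDescent

/-!
# Monomorphisms of a finite diagonalisable group into an affine group, and their quotient by automorphisms
-/

set_option autoImplicit false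
universe u

open CategoryTheory CategoryTheory.Limits MonoidalCategory CartesianMonoidalCategory AlgebraicGeometry
open scoped MonObj

set_option backward.isDefEq.respectTransparency.types false
set_option linter.style.haveILetI false

noncomputable section

namespace Groth.L24.FinSub

open Groth.L25 Groth.L25.SplitSub

variable {S : Scheme.{u}} {G : Over S} [GrpObj G]

theorem fg_of_finite (F : Type) [AddCommGroup F] [Finite F] : AddGroup.FG F :=
  AddGroup.fg_iff_addMonoid_fg.2 inferInstance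

theorem isFinite_DS (S : Scheme.{u}) (F : Type) [AddCommGroup F] [Finite F] : IsFinite (Red.DS S F).hom := by
  refine MorphismProperty.pullback_snd _ _ ?_
  show IsFinite (Spec.map (CommRingCat.ofHom
    (algebraMap (ULift.{u} ℤ) (MonoidAlgebra (ULift.{u} ℤ) (Multiplicative F)))))
  rw [IsFinite.SpecMap_iff, CommRingCat.hom_ofHom, RingHom.finite_algebraMap]
  haveI : Finite (Multiplicative F) := Finite.of_equiv F Multiplicative.ofAdd
  exact Module.Finite.of_basis (MonoidAlgebra.basis (Multiplicative F) (ULift.{u} ℤ))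

/-- `X` carries the universal family of homomorphisms with trivial kernel out of `D(F)` into `G` -/
structure Piece (F : Type) [AddCommGroup F] (X : Over S) (υ : Red.DS S F ⊗ X ⟶ G) : Prop where
  hom : AutFam.IsHomFamily (Red.DS S F) G υ
  mono : MonoFam υ
  exists_pt : ∀ (Z : Over S) (φ : Red.DS S F ⊗ Z ⟶ G), AutFam.IsHomFamily (Red.DS S F) G φ → MonoFam φ →
    ∃ a : Z ⟶ X, (Red.DS S F ◁ a) ≫ υ = φ
  pt_ext : ∀ (Z : Over S) (a b : Z ⟶ X), (Red.DS S F ◁ a) ≫ υ = (Red.DS S F ◁ b) ≫ υ → a = b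
  affine : IsAffineHom X.hom
  lfp : LocallyOfFinitePresentation X.hom

variable [IsAffineHom G.hom] [LocallyOfFinitePresentation G.hom]

theorem exists_piece (F : Type) [AddCommGroup F] [Finite F] :
    ∃ (X : Over S) (υ : Red.DS S F ⊗ X ⟶ G), Piece F X υ := by
  have hMT := isMultTypeFT_DS S F (fg_of_finite F)
  haveI := isFinite_DS S F
  haveI : Flat (Red.DS S F).hom := HomScheme.flat_of_multTypeFT hMT
  haveI : LocallyOfFinitePresentation (Red.DS S F).hom := Locus.lfp_of_multTypeFT hMT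
  obtain ⟨A, υA, ⟨hυ, huniv⟩, hAa, -, hAp⟩ := HomScheme.exists_representsHom (Red.DS S F) G
  haveI := hAa
  haveI := hAp ‹LocallyOfFinitePresentation G.hom›
  let U := monoLocus υA
  have hcl : IsClosed (U : Set A.left) := isClosed_monoLocus υA hυ
  let X : Over S := Over.mk (U.ι ≫ A.hom)
  let i : X ⟶ A := Over.homMk U.ι rfl
  have hhom : ∀ {Z : Over S} (a : Z ⟶ A), AutFam.IsHomFamily (Red.DS S F) G ((Red.DS S F ◁ a) ≫ υA) :=
    fun a T z z' t => by
      rw [comp_whisker, comp_whisker, comp_whisker]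
      exact hυ _ _ _ _
  refine ⟨X, (Red.DS S F ◁ i) ≫ υA, hhom i, (monoFam_iff υA hυ i).2 fun z => z.2, fun Z φ hφ hm => ?_,
    fun Z a b e => ?_, ?_, inferInstanceAs (LocallyOfFinitePresentation (U.ι ≫ A.hom))⟩
  · obtain ⟨a, ha, -⟩ := huniv Z φ hφ
    have hr : ∀ z, a.left z ∈ U := (monoFam_iff υA hυ a).1 (by rwa [ha])
    let a' : Z ⟶ X := Over.homMk (IsOpenImmersion.lift U.ι a.left (by
        rintro _ ⟨z, rfl⟩; rw [Scheme.Opens.range_ι]; exact hr z)) (by
      show _ ≫ U.ι ≫ A.hom = Z.hom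
      rw [IsOpenImmersion.lift_fac_assoc, Over.w a])
    refine ⟨a', ?_⟩
    have : a' ≫ i = a := Over.OverMorphism.ext (IsOpenImmersion.lift_fac _ _ _)
    rw [← MonoidalCategory.whiskerLeft_comp_assoc, this, ha]
  · have h1 : a ≫ i = b ≫ i := by
      obtain ⟨c, -, hc⟩ := huniv Z _ (hhom (a ≫ i))
      refine (hc _ rfl).trans (hc _ ?_).symm
      show (Red.DS S F ◁ (b ≫ i)) ≫ υA = (Red.DS S F ◁ (a ≫ i)) ≫ υA
      rw [MonoidalCategory.whiskerLeft_comp_assoc, MonoidalCategory.whiskerLeft_comp_assoc, e]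
    refine Over.OverMorphism.ext ((cancel_mono U.ι).1 ?_)
    exact congrArg (fun m => m.left) h1
  · haveI : IsClosedImmersion U.ι := IsClosedImmersion.of_isPreimmersion U.ι (by
      rw [Scheme.Opens.range_ι]; exact hcl)
    exact inferInstanceAs (IsAffineHom (U.ι ≫ A.hom))

variable {F : Type} [AddCommGroup F] {X : Over S} {υ : Red.DS S F ⊗ X ⟶ G}

omit [IsAffineHom G.hom] [LocallyOfFinitePresentation G.hom]

theorem Piece.eq_of_pts (hX : Piece F X υ) {Z : Over S} (a b : Z ⟶ X)
    (h : ∀ (T : Over S) (t : T ⟶ Z) (z : T ⟶ Red.DS S F), lift z (t ≫ a) ≫ υ = lift z (t ≫ b) ≫ υ) : a = b :=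
  hX.pt_ext Z a b (by
    have := h _ (snd (Red.DS S F) Z) (fst _ _)
    have e : ∀ c : Z ⟶ X, lift (fst (Red.DS S F) Z) (snd (Red.DS S F) Z ≫ c) = Red.DS S F ◁ c := fun c => by
      apply CartesianMonoidalCategory.hom_ext <;> simp
    rwa [e, e] at this)

/-- a point of `G` lies in the image of the homomorphism given by a point of `X` -/
def Img (υ : Red.DS S F ⊗ X ⟶ G) {T : Over S} (a : T ⟶ X) (g : T ⟶ G) : Prop :=
  ∃ z, lift z a ≫ υ = g

/-- the universal subscheme -/
def sub (υ : Red.DS S F ⊗ X ⟶ G) : Over.mk (snd (Red.DS S F) X).left ⟶ Red.bc X.hom G :=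
  Over.homMk (pullback.lift υ.left (snd (Red.DS S F) X).left
    ((Over.w υ).trans (Over.w (snd (Red.DS S F) X)).symm)) (pullback.lift_snd _ _ _)

omit [GrpObj G] in
theorem mem_sub_iff {T : Over S} (a : T ⟶ X) (g : T ⟶ G) : Mem (sub υ) a g ↔ Img υ a g := by
  have hs : (sub υ).left ≫ pullback.fst G.hom X.hom = υ.left := pullback.lift_fst _ _ _
  constructor
  · rintro ⟨z, h1, h2⟩
    rw [hs] at h2
    have h1' : z ≫ (snd (Red.DS S F) X).left = a.left := h1
    let zz : T ⟶ Red.DS S F ⊗ X := Over.homMk z (by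
      rw [← Over.w (snd (Red.DS S F) X), ← Category.assoc, h1', Over.w a])
    refine ⟨zz ≫ fst _ _, ?_⟩
    have ha : zz ≫ snd _ _ = a := Over.OverMorphism.ext h1'
    rw [← ha, ← comp_lift, lift_fst_snd, Category.comp_id]
    exact Over.OverMorphism.ext h2
  · rintro ⟨z, rfl⟩
    refine ⟨(lift z a).left, ?_, ?_⟩
    · exact congrArg (fun m : T ⟶ X => m.left) (lift_snd z a)
    · rw [hs]; rfl

theorem Piece.mono_sub (hX : Piece F X υ) : Mono (sub υ).left := by
  constructor
  intro Z p q e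
  have hs : (sub υ).left ≫ pullback.fst G.hom X.hom = υ.left := pullback.lift_fst _ _ _
  have hs' : (sub υ).left ≫ pullback.snd G.hom X.hom = (snd (Red.DS S F) X).left := pullback.lift_snd _ _ _
  have e1 : p ≫ υ.left = q ≫ υ.left := by
    rw [← hs, ← Category.assoc, e, Category.assoc]
  have e2 : p ≫ (snd (Red.DS S F) X).left = q ≫ (snd (Red.DS S F) X).left := by
    rw [← hs', ← Category.assoc, e, Category.assoc]
  let T : Over S := Over.mk (p ≫ (Red.DS S F ⊗ X).hom)
  let P : T ⟶ Red.DS S F ⊗ X := Over.homMk p rfl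
  let Q : T ⟶ Red.DS S F ⊗ X := Over.homMk q (by
    show q ≫ (Red.DS S F ⊗ X).hom = p ≫ (Red.DS S F ⊗ X).hom
    rw [← Over.w (snd (Red.DS S F) X), reassoc_of% e2])
  have h2 : Q ≫ snd _ _ = P ≫ snd _ _ := Over.OverMorphism.ext e2.symm
  have h1 : P ≫ υ = Q ≫ υ := Over.OverMorphism.ext e1
  have h3 : P ≫ fst _ _ = Q ≫ fst _ _ := hX.mono.cancel hX.hom (a := P ≫ snd _ _) (by
    conv_rhs => rw [← h2]
    rw [← comp_lift, ← comp_lift, lift_fst_snd, Category.comp_id, Category.comp_id, h1])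
  exact congrArg (fun m => m.left) (CartesianMonoidalCategory.hom_ext P Q h3 h2.symm)

theorem isFinite_sub_hom [Finite F] : IsFinite (snd (Red.DS S F) X).left :=
  MorphismProperty.pullback_snd _ _ (isFinite_DS S F)

theorem Piece.isClosedImmersion_sub [IsAffineHom G.hom] [Finite F] (hX : Piece F X υ) :
    IsClosedImmersion (sub υ).left := by
  haveI := hX.mono_sub
  haveI := isFinite_sub_hom (S := S) (F := F) (X := X)
  haveI : IsSeparated (pullback.snd G.hom X.hom) := MorphismProperty.pullback_snd _ _ inferInstance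
  have h : IsFinite ((sub υ).left ≫ pullback.snd G.hom X.hom) := by
    rw [show (sub υ).left ≫ pullback.snd G.hom X.hom = (snd (Red.DS S F) X).left from pullback.lift_snd _ _ _]
    infer_instance
  haveI := h
  haveI : IsFinite (sub υ).left := IsFinite.of_comp (sub υ).left (pullback.snd G.hom X.hom)
  exact (IsClosedImmersion.iff_isFinite_and_mono _).2 ⟨inferInstance, inferInstance⟩

/-- equal images are related by an isomorphism of character groups, locally -/
theorem exists_local_iso [Finite F] (hX : Piece F X υ) {F' : Type} [AddCommGroup F'] [Finite F'] {X' : Over S}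
    {υ' : Red.DS S F' ⊗ X' ⟶ G} (hX' : Piece F' X' υ') {Y : Over S} (a : Y ⟶ X) (b : Y ⟶ X')
    (h : ∀ (T : Over S) (t : T ⟶ Y) (g : T ⟶ G), Img υ (t ≫ a) g ↔ Img υ' (t ≫ b) g) (y : Y.left) :
    ∃ U : Y.left.Opens, y ∈ U ∧ ∃ e : F' ≃+ F, ∀ (T : Over S) (t : T ⟶ Y), (∀ w, t.left w ∈ U) →
      ∀ z : T ⟶ Red.DS S F,
        lift (z ≫ Red.DSmap S (e : F' →+ F)) (t ≫ b) ≫ υ' = lift z (t ≫ a) ≫ υ := by
  obtain ⟨α, hα⟩ := (h _ (snd (Red.DS S F) Y) _).1 ⟨fst _ _, rfl⟩
  obtain ⟨β, hβ⟩ := (h _ (snd (Red.DS S F') Y) _).2 ⟨fst _ _, rfl⟩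
  have hαT : ∀ {T : Over S} (z : T ⟶ Red.DS S F) (t : T ⟶ Y),
      lift (lift z t ≫ α) (t ≫ b) ≫ υ' = lift z (t ≫ a) ≫ υ := fun z t => by
    have := congrArg (lift z t ≫ ·) hα
    simpa only [comp_lift_assoc, lift_fst, lift_snd_assoc] using this
  have hβT : ∀ {T : Over S} (z : T ⟶ Red.DS S F') (t : T ⟶ Y),
      lift (lift z t ≫ β) (t ≫ a) ≫ υ = lift z (t ≫ b) ≫ υ' := fun z t => by
    have := congrArg (lift z t ≫ ·) hβ
    simpa only [comp_lift_assoc, lift_fst, lift_snd_assoc] using this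
  have hαh : AutFam.IsHomFamily (Red.DS S F) (Red.DS S F') α := fun T z z' t => by
    refine hX'.mono.cancel hX'.hom (a := t ≫ b) ?_
    rw [hαT, hX.hom, hX'.hom, hαT, hαT]
  have hβh : AutFam.IsHomFamily (Red.DS S F') (Red.DS S F) β := fun T z z' t => by
    refine hX.mono.cancel hX.hom (a := t ≫ a) ?_
    rw [hβT, hX.hom, hX'.hom, hβT, hβT]
  obtain ⟨U₁, hy₁, φ, hφ⟩ := exists_local_map (fg_of_finite F') α hαh y
  obtain ⟨U₂, hy₂, ψ, hψ⟩ := exists_local_map (fg_of_finite F) β hβh y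
  let U := U₁ ⊓ U₂
  let YU : Over S := Over.mk (U.ι ≫ Y.hom)
  let iU : YU ⟶ Y := Over.homMk U.ι rfl
  let yU : YU.left := ⟨y, hy₁, hy₂⟩
  have hin : ∀ {T : Over S} (t : T ⟶ YU) (w : T.left), (t ≫ iU).left w ∈ U := fun t w => (t.left w).2
  have h1 : φ.comp ψ = AddMonoidHom.id F := addHom_ext yU _ _ fun T t z => by
    rw [← TorusTorsion.DSmap_comp, TorusTorsion.DSmap_id, Category.comp_id, ← Category.assoc,
      ← hφ T (t ≫ iU) (fun w => (hin t w).1) z, ← hψ T (t ≫ iU) (fun w => (hin t w).2)]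
    refine hX.mono.cancel hX.hom (a := (t ≫ iU) ≫ a) ?_
    rw [hβT, hαT]
  have h2 : ψ.comp φ = AddMonoidHom.id F' := addHom_ext yU _ _ fun T t z => by
    rw [← TorusTorsion.DSmap_comp, TorusTorsion.DSmap_id, Category.comp_id, ← Category.assoc,
      ← hψ T (t ≫ iU) (fun w => (hin t w).2) z, ← hφ T (t ≫ iU) (fun w => (hin t w).1)]
    refine hX'.mono.cancel hX'.hom (a := (t ≫ iU) ≫ b) ?_
    rw [hαT, hβT]
  refine ⟨U, ⟨hy₁, hy₂⟩, AddMonoidHom.toAddEquiv φ ψ h2 h1, fun T t ht z => ?_⟩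
  have e : ((AddMonoidHom.toAddEquiv φ ψ h2 h1 : F' ≃+ F) : F' →+ F) = φ := rfl
  rw [e, ← hφ T t (fun w => (ht w).1) z, hαT]

section Action

variable (hX : Piece F X υ)

include hX in
theorem exists_twist (g : AddAut F) : ∃ r : X ⟶ X, ∀ (T : Over S) (a : T ⟶ X) (z : T ⟶ Red.DS S F),
    lift z (a ≫ r) ≫ υ = lift (z ≫ Red.DSmap S (g : F →+ F)) a ≫ υ := by
  haveI : IsMonHom (Red.DSmap S (g : F →+ F)) := TorusTorsion.isMonHom_DSmap S _
  obtain ⟨r, hr⟩ := hX.exists_pt X ((Red.DSmap S (g : F →+ F) ▷ X) ≫ υ) (fun T z z' t => by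
    simp only [lift_whiskerRight_assoc, MonObj.mul_comp]
    exact hX.hom _ _ _ _) (fun T a z hz => by
      rw [lift_whiskerRight_assoc] at hz
      have h := hX.mono T a _ hz
      have h' := congrArg (· ≫ Red.DSmap S (g.symm : F →+ F)) h
      haveI : IsMonHom (Red.DSmap S (g.symm : F →+ F)) := TorusTorsion.isMonHom_DSmap S _
      simp only [Category.assoc, TorusTorsion.DSmap_comp, MonObj.one_comp] at h'
      rwa [show ((g : F →+ F).comp (g.symm : F →+ F)) = AddMonoidHom.id F from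
        AddMonoidHom.ext fun x => g.apply_symm_apply x, TorusTorsion.DSmap_id, Category.comp_id] at h')
  refine ⟨r, fun T a z => ?_⟩
  have := congrArg (lift z a ≫ ·) hr
  simpa only [lift_whiskerLeft_assoc, lift_whiskerRight_assoc] using this

/-- twisting a homomorphism by an automorphism of the character group -/
def twist (g : AddAut F) : X ⟶ X := (exists_twist hX g).choose

theorem lift_twist (g : AddAut F) {T : Over S} (a : T ⟶ X) (z : T ⟶ Red.DS S F) :
    lift z (a ≫ twist hX g) ≫ υ = lift (z ≫ Red.DSmap S (g : F →+ F)) a ≫ υ :=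
  (exists_twist hX g).choose_spec T a z

theorem twist_add (g h : AddAut F) : twist hX (g + h) = twist hX h ≫ twist hX g := by
  refine hX.eq_of_pts _ _ fun T t z => ?_
  rw [lift_twist, ← Category.assoc, lift_twist, lift_twist, Category.assoc, TorusTorsion.DSmap_comp]
  rfl

theorem twist_zero : twist hX 0 = 𝟙 X := by
  refine hX.eq_of_pts _ _ fun T t z => ?_
  rw [lift_twist, Category.comp_id, show ((0 : AddAut F) : F →+ F) = AddMonoidHom.id F from rfl,
    TorusTorsion.DSmap_id, Category.comp_id]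

/-- the action of the automorphisms of the character group -/
def action : ULift.{u} (Multiplicative (AddAut F)) →* Aut X.left where
  toFun g :=
    { hom := (twist hX g.down.toAdd).left
      inv := (twist hX (-g.down.toAdd)).left
      hom_inv_id := by
        rw [← Over.comp_left, ← twist_add, neg_add_cancel, twist_zero]; rfl
      inv_hom_id := by
        rw [← Over.comp_left, ← twist_add, add_neg_cancel, twist_zero]; rfl }
  map_one' := Iso.ext (by
    show (twist hX 0).left = _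
    rw [twist_zero]; rfl)
  map_mul' g h := Iso.ext (by
    show (twist hX (g.down.toAdd + h.down.toAdd)).left = _
    rw [twist_add]; rfl)

theorem free_action : Groth.L27.Quot.Free (action hX) := by
  intro K _ _ ξ g hg
  let Y : Over S := Over.mk (ξ ≫ X.hom)
  let x : Y ⟶ X := Over.homMk ξ rfl
  have hx : x ≫ twist hX g.down.toAdd = x := Over.OverMorphism.ext hg
  have h1 : (g.down.toAdd : F →+ F) = AddMonoidHom.id F :=
    addHom_ext (IsLocalRing.closedPoint K : Y.left) _ _ fun T t z => by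
    rw [TorusTorsion.DSmap_id, Category.comp_id]
    refine hX.mono.cancel hX.hom (a := t ≫ x) ?_
    rw [← lift_twist hX, Category.assoc, hx]
  have h2 : g.down.toAdd = 0 := AddEquiv.ext fun n => DFunLike.congr_fun h1 n
  exact ULift.ext _ _ (Multiplicative.toAdd.injective h2)

end Action

end Groth.L24.FinSub
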