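import Groth.Agent.L24.FinSub.Piece
import Groth.Agent.L25.Descent.CovOfQC
import Groth.Agent.L25.MultTypeBC
import Groth.Agent.L20.SchDesc.Main
import Groth.Agent.L20.FibreScheme
import Groth.Agent.L23.Descent
import Groth.Agent.L23.AffineMor
import Groth.Agent.L08.Borel.CentKernel

/-!
# The quotient of the scheme of monomorphisms by automorphisms, with the descended subgroup
-/

set_option autoImplicit false
universe u

open CategoryTheory CategoryTheory.Limits MonoidalCategory CartesianMonoidalCategory AlgebraicGeometry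
open scoped MonObj

set_option backward.isDefEq.respectTransparency.types false
set_option linter.style.haveILetI false

noncomputable section

namespace Groth.L24.FinSub

open Groth.L25 Groth.L25.SplitSub

variable {S : Scheme.{u}} {G : Over S} [GrpObj G]
variable {F : Type} [AddCommGroup F] [Finite F] {X : Over S} {υ : Red.DS S F ⊗ X ⟶ G}

omit [Finite F] in
theorem img_twist_iff (hX : Piece F X υ) (g : AddAut F) {T : Over S} (a : T ⟶ X) (x : T ⟶ G) :
    Img υ (a ≫ twist hX g) x ↔ Img υ a x := by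
  constructor
  · rintro ⟨z, rfl⟩
    exact ⟨_, (lift_twist hX g a z).symm⟩
  · rintro ⟨z, rfl⟩
    refine ⟨z ≫ Red.DSmap S ((-g : AddAut F) : F →+ F), ?_⟩
    rw [lift_twist, Category.assoc, TorusTorsion.DSmap_comp,
      show ((-g : AddAut F) : F →+ F).comp (g : F →+ F) = AddMonoidHom.id F from
        AddMonoidHom.ext fun n => g.symm_apply_apply n, TorusTorsion.DSmap_id, Category.comp_id]

omit [Finite F] in
theorem Piece.img_of_openCover (hX : Piece F X υ) {T : Over S} {I : Type u} (U : I → T.left.Opens)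
    (hU : ∀ t, ∃ i, t ∈ U i) {a : T ⟶ X} {x : T ⟶ G}
    (h : ∀ i, Img υ ((Over.homMk (U i).ι rfl : Over.mk ((U i).ι ≫ T.hom) ⟶ T) ≫ a)
      ((Over.homMk (U i).ι rfl : Over.mk ((U i).ι ≫ T.hom) ⟶ T) ≫ x)) : Img υ a x := by
  haveI := hX.mono_sub
  exact (mem_sub_iff a x).1 (Mem.of_openCover (sub υ) U hU fun i => (mem_sub_iff _ _).2 (h i))

variable [IsAffineHom G.hom]

/-- the data attached to one isomorphism type -/
structure QuotPiece (F : Type) [AddCommGroup F] (X : Over S) (υ : Red.DS S F ⊗ X ⟶ G) (M : Over S) (p : X ⟶ M)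
    (K : Over M.left) (j : K ⟶ Red.bc M.hom G) : Prop where
  affine : IsAffineHom M.hom
  lfp : LocallyOfFinitePresentation M.hom
  etale : Etale p.left
  surjective : Surjective p.left
  affine_p : IsAffineHom p.left
  comp_eq_iff : ∀ (Y : Over S) (a b : Y ⟶ X), a ≫ p = b ≫ p ↔
    ∀ (T : Over S) (t : T ⟶ Y) (g : T ⟶ G), Img υ (t ≫ a) g ↔ Img υ (t ≫ b) g
  finite : IsFinite K.hom
  closed : IsClosedImmersion j.left
  mem_iff : ∀ (T : Over S) (a : T ⟶ X) (g : T ⟶ G), Mem j (a ≫ p) g ↔ Img υ a g

theorem exists_quotPiece (hX : Piece F X υ) : ∃ (M : Over S) (p : X ⟶ M) (K : Over M.left)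
    (j : K ⟶ Red.bc M.hom G), QuotPiece F X υ M p K j := by
  classical
  let Γ := ULift.{u} (Multiplicative (AddAut F))
  haveI : Finite (AddAut F) := Finite.of_injective (fun e : AddAut F => (e : F → F)) DFunLike.coe_injective
  haveI : Finite (Multiplicative (AddAut F)) := Finite.of_equiv _ Multiplicative.ofAdd
  haveI : Finite Γ := inferInstanceAs (Finite (ULift.{u} (Multiplicative (AddAut F))))
  let ρ : Γ →* Aut X.left := action hX
  haveI := hX.affine
  haveI := hX.lfp
  have hρ : ∀ g : Γ, (ρ g).hom ≫ X.hom = X.hom := fun g => Over.w (twist hX g.down.toAdd)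
  obtain ⟨M₀, p₀, hp⟩ := Groth.L27.Quot.exists_quotient ρ fun x => by
    obtain ⟨V, hV, hxV, -⟩ := exists_isAffineOpen_mem_and_subset (X := S) (x := X.hom x) (U := ⊤) trivial
    refine ⟨X.hom ⁻¹ᵁ V, hV.preimage X.hom, fun g => ?_⟩
    show X.hom ((ρ g).hom x) ∈ V
    rw [← Scheme.Hom.comp_apply, hρ]
    exact hxV
  let q : M₀ ⟶ S := Groth.L27.Quot.desc hp X.hom hρ
  have hq : p₀ ≫ q = X.hom := Groth.L27.Quot.comp_desc hp X.hom hρ
  let M : Over S := Over.mk q
  let p : X ⟶ M := Over.homMk p₀ hq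
  have hfree : Groth.L27.Quot.Free ρ := free_action hX
  haveI het : Etale p₀ := Groth.L27.Quot.etale hp hfree
  haveI hsurj : Surjective p₀ := ⟨Groth.L27.Quot.surjective hp⟩
  haveI hpa : IsAffineHom p₀ := hp.affine
  have hMa : IsAffineHom q := by
    haveI : IsAffineHom (p₀ ≫ q) := by rw [hq]; infer_instance
    exact Groth.L27.Quot.isAffineHom_of_comp hp q
  have hMp : LocallyOfFinitePresentation q :=
    Groth.L23.locallyOfFinitePresentation_of_etale_comp' (χ := p₀) (g := q) (by rw [hq]; infer_instance)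
  have hiff : ∀ (Y : Over S) (a b : Y ⟶ X), a ≫ p = b ≫ p ↔
      ∀ (T : Over S) (t : T ⟶ Y) (g : T ⟶ G), Img υ (t ≫ a) g ↔ Img υ (t ≫ b) g := by
    intro Y a b
    constructor
    · intro h
      let σ : (∐ fun _ : Γ => X.left) ⟶ pullback p₀ p₀ := Sigma.desc fun g =>
        pullback.lift (𝟙 X.left) (ρ g).hom ((Category.id_comp p₀).trans (hp.inv g).symm)
      have hσ : IsIso σ := Groth.L27.Quot.isIso_torsor hp hfree
      intro T t x
      let c : T.left ⟶ ∐ fun _ : Γ => X.left :=
        pullback.lift (t ≫ a).left (t ≫ b).left (congrArg (fun m => (t ≫ m).left) h) ≫ (@asIso _ _ _ _ σ hσ).inv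
      let U : Γ → T.left.Opens := fun g => c ⁻¹ᵁ (Sigma.ι (fun _ : Γ => X.left) g).opensRange
      have hU : ∀ y, ∃ g, y ∈ U g := fun y => by
        obtain ⟨g, z, hz⟩ := (sigmaOpenCover fun _ : Γ => X.left).exists_eq (c y)
        exact ⟨g, z, hz⟩
      have key : ∀ g, (Over.homMk (U g).ι rfl : Over.mk ((U g).ι ≫ T.hom) ⟶ T) ≫ t ≫ b =
          ((Over.homMk (U g).ι rfl : Over.mk ((U g).ι ≫ T.hom) ⟶ T) ≫ t ≫ a) ≫ twist hX g.down.toAdd := by
        intro g
        let l := IsOpenImmersion.lift (Sigma.ι (fun _ : Γ => X.left) g) ((U g).ι ≫ c) (by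
          rintro _ ⟨y, rfl⟩; exact y.2)
        have hl : l ≫ Sigma.ι (fun _ : Γ => X.left) g ≫ σ = (U g).ι ≫
            pullback.lift (t ≫ a).left (t ≫ b).left (congrArg (fun m => (t ≫ m).left) h) := by
          rw [IsOpenImmersion.lift_fac_assoc]
          show (U g).ι ≫ (_ ≫ (@asIso _ _ _ _ σ hσ).inv) ≫ σ = _
          rw [Category.assoc]
          exact congrArg ((U g).ι ≫ ·) ((congrArg (_ ≫ ·) (@asIso _ _ _ _ σ hσ).inv_hom_id).trans (Category.comp_id _))
        simp only [σ, Sigma.ι_desc] at hl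
        have h1 := congrArg (· ≫ pullback.fst p₀ p₀) hl
        have h2 := congrArg (· ≫ pullback.snd p₀ p₀) hl
        simp only [Category.assoc, pullback.lift_fst, pullback.lift_snd, Category.comp_id] at h1 h2
        refine Over.OverMorphism.ext ?_
        show (U g).ι ≫ (t ≫ b).left = ((U g).ι ≫ (t ≫ a).left) ≫ (ρ g).hom
        have h1' := h1.trans ((Category.assoc _ _ _).trans (congrArg ((U g).ι ≫ ·) (pullback.lift_fst _ _ _)))
        have h2' := h2.trans ((Category.assoc _ _ _).trans (congrArg ((U g).ι ≫ ·) (pullback.lift_snd _ _ _)))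
        exact h2'.symm.trans (congrArg (· ≫ (ρ g).hom) h1')
      constructor
      · intro hx
        refine hX.img_of_openCover U hU fun g => ?_
        rw [key g, img_twist_iff]
        obtain ⟨z, rfl⟩ := hx
        exact ⟨_, (comp_lift_assoc _ _ _ _).symm⟩
      · intro hx
        refine hX.img_of_openCover U hU fun g => ?_
        rw [← img_twist_iff hX g.down.toAdd, ← key g]
        obtain ⟨z, rfl⟩ := hx
        exact ⟨_, (comp_lift_assoc _ _ _ _).symm⟩
    · intro h
      choose U hyU e he using fun y => exists_local_iso hX hX a b h y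
      let 𝒰 : Y.left.OpenCover := Scheme.Cover.mkOfCovers Y.left (fun y => (U y).toScheme) (fun y => (U y).ι)
        (fun y => ⟨y, ⟨y, hyU y⟩, rfl⟩) (fun _ => inferInstance)
      refine Over.OverMorphism.ext (Scheme.Cover.hom_ext 𝒰 _ _ fun y => ?_)
      let YU : Over S := Over.mk ((U y).ι ≫ Y.hom)
      let i : YU ⟶ Y := Over.homMk (U y).ι rfl
      have h1 : (i ≫ b) ≫ twist hX (e y) = i ≫ a := hX.eq_of_pts _ _ fun T t z => by
        rw [← Category.assoc, lift_twist, ← Category.assoc t, ← Category.assoc t]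
        exact he y T (t ≫ i) (fun w => (t.left w).2) z
      show (i ≫ a ≫ p).left = (i ≫ b ≫ p).left
      rw [← Category.assoc, ← h1]
      simp only [Category.assoc]
      show (i ≫ b).left ≫ (twist hX (e y)).left ≫ p₀ = (i ≫ b).left ≫ p₀
      rw [show (twist hX (e y)).left ≫ p₀ = p₀ from hp.inv (ULift.up (Multiplicative.ofAdd (e y)))]
  let f := (sub υ).left
  haveI hfc : IsClosedImmersion f := hX.isClosedImmersion_sub
  have hMpb : pullback.fst G.hom X.hom ≫ G.hom = (pullback.snd G.hom X.hom ≫ p₀) ≫ q := by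
    rw [Category.assoc, hq, pullback.condition]
  let π : pullback G.hom X.hom ⟶ pullback G.hom q :=
    pullback.lift (pullback.fst G.hom X.hom) (pullback.snd G.hom X.hom ≫ p₀) hMpb
  have hsq : IsPullback π (pullback.snd G.hom X.hom) (pullback.snd G.hom q) p₀ := by
    refine IsPullback.of_right (h₁₂ := pullback.fst G.hom q) (v₁₃ := G.hom) (h₂₂ := q) ?_
      (pullback.lift_snd _ _ _) (IsPullback.of_hasPullback G.hom q)
    rw [pullback.lift_fst, hq]
    exact IsPullback.of_hasPullback G.hom X.hom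
  haveI : Flat π := MorphismProperty.of_isPullback (P := @Flat) hsq.flip inferInstance
  haveI : Surjective π := MorphismProperty.of_isPullback (P := @Surjective) hsq.flip hsurj
  haveI : IsAffineHom π := MorphismProperty.of_isPullback (P := @IsAffineHom) hsq.flip hpa
  haveI : LocallyOfFinitePresentation π :=
    MorphismProperty.of_isPullback (P := @LocallyOfFinitePresentation) hsq.flip inferInstance
  haveI : Groth.L20.SchDesc.Cov π :=
    Descent.cov_of_cover π (Groth.L08.Borel.cover_of_lfp π)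
  have hfw : f ≫ pullback.snd G.hom X.hom = (snd (Red.DS S F) X).left := pullback.lift_snd _ _ _
  have hex : ∀ {T : Scheme.{u}} (v : T ⟶ (Red.DS S F ⊗ X).left) (x : T ⟶ pullback G.hom X.hom),
      v ≫ f ≫ π = x ≫ π → ∃ w, w ≫ f = x := by
    intro T v x h
    have hg := congrArg (· ≫ pullback.fst G.hom q) h
    have hm := congrArg (· ≫ pullback.snd G.hom q) h
    simp only [π, Category.assoc, pullback.lift_fst, pullback.lift_snd] at hg hm
    let Y : Over S := Over.mk ((x ≫ pullback.snd G.hom X.hom) ≫ X.hom)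
    let b : Y ⟶ X := Over.homMk (x ≫ pullback.snd G.hom X.hom) rfl
    let g : Y ⟶ G := Over.homMk (x ≫ pullback.fst G.hom X.hom) (by
      show (x ≫ pullback.fst G.hom X.hom) ≫ G.hom = (x ≫ pullback.snd G.hom X.hom) ≫ X.hom
      simp only [Category.assoc, pullback.condition])
    have hm' : (v ≫ f ≫ pullback.snd G.hom X.hom) ≫ p₀ = (x ≫ pullback.snd G.hom X.hom) ≫ p₀ := by
      simpa only [Category.assoc] using hm
    let a : Y ⟶ X := Over.homMk (v ≫ f ≫ pullback.snd G.hom X.hom) (by
      show (v ≫ f ≫ pullback.snd G.hom X.hom) ≫ X.hom = (x ≫ pullback.snd G.hom X.hom) ≫ X.hom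
      have h1 := congrArg (· ≫ q) hm'
      simpa only [Category.assoc, hq] using h1)
    have h1 : Img υ a g := (mem_sub_iff a g).1 ⟨v, by rw [← hfw]; rfl, hg⟩
    have h2 := ((hiff Y a b).1 (Over.OverMorphism.ext hm') Y (𝟙 Y) g).1 (by rwa [Category.id_comp])
    rw [Category.id_comp] at h2
    obtain ⟨w, hw, hw'⟩ := (mem_sub_iff b g).2 h2
    refine ⟨w, pullback.hom_ext ((Category.assoc _ _ _).trans hw') ?_⟩
    rw [Category.assoc, hfw]
    exact hw
  choose act hact using @hex
  let P : Groth.L20.SchDesc.Pre π f :=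
    { act := act
      hom := hact
      natural := fun g v x e e' => (cancel_mono f).1 (by rw [hact, Category.assoc, hact])
      self := fun v e => (cancel_mono f).1 (hact _ _ _)
      comp := fun v x y e e' e'' => (cancel_mono f).1 (by rw [hact, hact]) }
  obtain ⟨d⟩ := Groth.L20.SchDesc.effective_of_isIndQuasiAffineHom
    (Groth.L20.isIndQuasiAffineHom_of_isImmersion f) P
  have hpq : (@Surjective ⊓ @Flat ⊓ @QuasiCompact : MorphismProperty Scheme.{u}) π :=
    ⟨⟨inferInstance, inferInstance⟩, inferInstance⟩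
  haveI hdc : IsClosedImmersion d.a :=
    MorphismProperty.of_isPullback_of_descendsAlong (P := @IsClosedImmersion)
      (Q := (@Surjective ⊓ @Flat ⊓ @QuasiCompact : MorphismProperty Scheme.{u})) d.isPullback hpq hfc
  let K : Over M.left := Over.mk (d.a ≫ pullback.snd G.hom q)
  let j : K ⟶ Red.bc M.hom G := Over.homMk d.a rfl
  have sqK : IsPullback d.q (f ≫ pullback.snd G.hom X.hom) (d.a ≫ pullback.snd G.hom q) p₀ :=
    d.isPullback.flip.paste_vert hsq
  refine ⟨M, p, K, j, hMa, hMp, het, hsurj, hpa, hiff, ?_, hdc, fun T a g => ?_⟩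
  · exact MorphismProperty.of_isPullback_of_descendsAlong (P := @IsFinite)
      (Q := (@Surjective ⊓ @Flat ⊓ @QuasiCompact : MorphismProperty Scheme.{u})) sqK.flip
      ⟨⟨hsurj, inferInstance⟩, inferInstance⟩ (by rw [hfw]; exact isFinite_sub_hom)
  · rw [← mem_sub_iff]
    let x : T.left ⟶ pullback G.hom X.hom := pullback.lift g.left a.left ((Over.w g).trans (Over.w a).symm)
    constructor
    · rintro ⟨z, h1, h2⟩
      have h1' : z ≫ d.a ≫ pullback.snd G.hom q = a.left ≫ p₀ := h1
      have h2' : z ≫ d.a ≫ pullback.fst G.hom q = g.left := h2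
      have hz : z ≫ d.a = x ≫ π := pullback.hom_ext
        (by rw [Category.assoc, h2', Category.assoc, pullback.lift_fst, pullback.lift_fst])
        (by rw [Category.assoc, h1', Category.assoc, pullback.lift_snd, pullback.lift_snd_assoc])
      refine ⟨d.isPullback.flip.lift z x hz, ?_, ?_⟩
      · show _ ≫ (snd (Red.DS S F) X).left = a.left
        rw [← hfw, ← Category.assoc, d.isPullback.flip.lift_snd, pullback.lift_snd]
      · show _ ≫ f ≫ pullback.fst G.hom X.hom = g.left
        rw [← Category.assoc, d.isPullback.flip.lift_snd, pullback.lift_fst]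
    · rintro ⟨z, h1, h2⟩
      have h1' : z ≫ (snd (Red.DS S F) X).left = a.left := h1
      have h2' : z ≫ f ≫ pullback.fst G.hom X.hom = g.left := h2
      refine ⟨z ≫ d.q, ?_, ?_⟩
      · show (z ≫ d.q) ≫ d.a ≫ pullback.snd G.hom q = a.left ≫ p₀
        rw [Category.assoc, sqK.w, Category.assoc, reassoc_of% hfw, reassoc_of% h1']
      · show (z ≫ d.q) ≫ d.a ≫ pullback.fst G.hom q = g.left
        rw [Category.assoc, ← d.isPullback.w_assoc, pullback.lift_fst, h2']

end Groth.L24.FinSub
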