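import Groth.Agent.L24.FinSub.Main
import Groth.Agent.L25.MultTypeBC
import Mathlib.AlgebraicGeometry.AlgClosed.Basic

/-!
# Isomorphism types of the geometric fibres of finite groups of multiplicative type
-/

set_option autoImplicit false
universe u

open CategoryTheory CategoryTheory.Limits MonoidalCategory CartesianMonoidalCategory AlgebraicGeometry
open scoped MonObj

set_option backward.isDefEq.respectTransparency.types false
set_option linter.style.haveILetI false

noncomputable section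

namespace Groth.L24.FinSub

open Groth.L25 Groth.L25.SplitSub

variable {S : Scheme.{u}}

theorem exists_lift_etale {K : Type u} [Field K] [IsAlgClosed K] {V T : Scheme.{u}} (π : V ⟶ T) [Etale π]
    (ξ : Spec (CommRingCat.of K) ⟶ T) (h : ξ (IsLocalRing.closedPoint K) ∈ Set.range π) :
    ∃ l : Spec (CommRingCat.of K) ⟶ V, l ≫ π = ξ := by
  obtain ⟨v, hv⟩ := h
  obtain ⟨w, -, -⟩ := Scheme.Pullback.exists_preimage_pullback (f := π) (g := ξ) v (IsLocalRing.closedPoint K) hv
  haveI : JacobsonSpace (pullback π ξ : Scheme.{u}) := LocallyOfFiniteType.jacobsonSpace (pullback.snd π ξ)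
  obtain ⟨x, -, hx⟩ := nonempty_inter_closedPoints (Z := (Set.univ : Set ↥(pullback π ξ))) ⟨w, trivial⟩
    isClosed_univ.isLocallyClosed
  refine ⟨pointOfClosedPoint (pullback.snd π ξ) x hx ≫ pullback.fst π ξ, ?_⟩
  rw [Category.assoc, pullback.condition, reassoc_of% (pointOfClosedPoint_comp (pullback.snd π ξ) x hx)]

/-- the pullback of an isomorphism with a diagonalisable group -/
def bcSplit {T V W : Scheme.{u}} {H : Over T} [GrpObj H] {π : V ⟶ T} {M : Type} [AddCommGroup M]
    (e : Grp.mk (Red.bc π H) ≅ Grp.mk (Red.DS V M)) (l : W ⟶ V) {d : W ⟶ T} (h : l ≫ π = d) :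
    Grp.mk (Red.bc d H) ≅ Grp.mk (Red.DS W M) :=
  (Grp.mkIso' (ActBC.bcCompIso l π H h)).symm ≪≫ (Over.pullback l).mapGrp.mapIso e ≪≫
    (haveI : IsMonHom (bcDS (N := M) l).hom := isMonHom_bcDS l; Grp.mkIso' (bcDS l))

/-- isomorphic diagonalisable groups have isomorphic character groups, over a point -/
theorem nonempty_addEquiv {K : Type u} [Field K] {M N : Type} [AddCommGroup M] [AddCommGroup N]
    [Finite M] [Finite N]
    (e : Grp.mk (Red.DS (Spec (CommRingCat.of K)) M) ≅ Grp.mk (Red.DS (Spec (CommRingCat.of K)) N)) :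
    Nonempty (N ≃+ M) := by
  let B := Spec (CommRingCat.of K)
  haveI : Monoid.FG (Multiplicative M) := AddMonoid.fg_iff_mul_fg.1 inferInstance
  haveI : Monoid.FG (Multiplicative N) := AddMonoid.fg_iff_mul_fg.1 inferInstance
  haveI : IsMonHom e.hom.hom.hom := e.hom.hom.isMonHom_hom
  haveI : IsMonHom e.inv.hom.hom := e.inv.hom.isMonHom_hom
  obtain ⟨U, hU, φ, hφ⟩ := exists_local_DSmap e.hom.hom.hom (IsLocalRing.closedPoint K)
  obtain ⟨U', hU', ψ, hψ⟩ := exists_local_DSmap e.inv.hom.hom (IsLocalRing.closedPoint K)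
  have hUtop : ∀ (W : B.Opens), IsLocalRing.closedPoint K ∈ W → ∀ (T : Over B) (y : T.left), T.hom y ∈ W :=
    fun W hW T y => by
      rw [show T.hom y = IsLocalRing.closedPoint K from Subsingleton.elim (α := PrimeSpectrum K) _ _]
      exact hW
  have hinv : e.hom.hom.hom ≫ e.inv.hom.hom = 𝟙 _ := congr($(e.hom_inv_id).hom.hom)
  have hinv' : e.inv.hom.hom ≫ e.hom.hom.hom = 𝟙 _ := congr($(e.inv_hom_id).hom.hom)
  have h1 : φ.comp ψ = AddMonoidHom.id M :=
    addHom_ext (Y := Over.mk (𝟙 B)) (IsLocalRing.closedPoint K) _ _ fun T _ z => by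
      rw [← TorusTorsion.DSmap_comp, TorusTorsion.DSmap_id, ← Category.assoc, ← hφ T (hUtop U hU T) z,
        ← hψ T (hUtop U' hU' T) (z ≫ e.hom.hom.hom), Category.assoc, hinv]
  have h2 : ψ.comp φ = AddMonoidHom.id N :=
    addHom_ext (Y := Over.mk (𝟙 B)) (IsLocalRing.closedPoint K) _ _ fun T _ z => by
      rw [← TorusTorsion.DSmap_comp, TorusTorsion.DSmap_id, ← Category.assoc, ← hψ T (hUtop U' hU' T) z,
        ← hφ T (hUtop U hU T) (z ≫ e.inv.hom.hom), Category.assoc, hinv']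
  exact ⟨AddMonoidHom.toAddEquiv φ ψ h2 h1⟩

variable {T : Scheme.{u}} {H : Over T} [GrpObj H]

/-- the geometric fibre has the given type -/
def HasType (H : Over T) [GrpObj H] (x : T) (i : Types.{u}) : Prop :=
  Nonempty (Grp.mk (Red.geomFibre x H) ≅
    Grp.mk (Red.DS (Spec (CommRingCat.of (AlgebraicClosure (T.residueField x)))) (grpOf i)))

theorem HasType.unique {x : T} {i k : Types.{u}} (hi : HasType H x i) (hk : HasType H x k) : i = k := by
  obtain ⟨a⟩ := hi
  obtain ⟨b⟩ := hk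
  obtain ⟨e⟩ := nonempty_addEquiv (a.symm ≪≫ b)
  exact (types_ext e).symm

theorem geomPt_closedPoint (x : T) :
    Red.geomPt x (IsLocalRing.closedPoint (AlgebraicClosure (T.residueField x))) = x := by
  show (Spec.map _ ≫ T.fromSpecResidueField x) _ = x
  rw [Scheme.Hom.comp_apply]
  exact Scheme.fromSpecResidueField_apply _ _

theorem isFinite_iso {V : Scheme.{u}} {A B : Over V} (e : A ≅ B) (h : IsFinite A.hom) : IsFinite B.hom := by
  haveI : IsIso e.inv.left := inferInstanceAs (IsIso ((Over.forget _).map e.inv))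
  rw [← Over.w e.inv]
  infer_instance

/-- etale local splittings of a group of multiplicative type with finite geometric fibres -/
theorem exists_split_nhd (hH : SGA3x.IsMultTypeFT H) (hf : ∀ x : T, IsFinite (Red.geomFibre x H).hom) (x : T) :
    ∃ (i : Types.{u}) (V : Scheme.{u}) (π : V ⟶ T), Etale π ∧ x ∈ Set.range π ∧
      Nonempty (Grp.mk (Red.bc π H) ≅ Grp.mk (Red.DS V (grpOf i))) := by
  obtain ⟨V, π, hπ, ⟨v, hv⟩, M, instM, hM, ⟨e⟩⟩ := Extend.exists_etale_split hH x
  letI := instM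
  obtain ⟨l, hl⟩ := exists_lift_etale π (Red.geomPt x) ⟨v, by rw [geomPt_closedPoint]; exact hv⟩
  haveI : Finite M := finite_of_isFinite_DS (T := Spec (CommRingCat.of (AlgebraicClosure (T.residueField x))))
    (isFinite_iso ((Grp.forget _).mapIso (bcSplit e l hl)) (hf x)) (IsLocalRing.closedPoint _)
  obtain ⟨i, ⟨ε⟩⟩ := exists_type.{u} M
  haveI : IsMonHom (Red.DSmap V (ε : grpOf i →+ M)) := TorusTorsion.isMonHom_DSmap _ _
  let d : Red.DS V M ≅ Red.DS V (grpOf i) :=
    ⟨Red.DSmap V (ε : grpOf i →+ M), Red.DSmap V (ε.symm : M →+ grpOf i), by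
      rw [TorusTorsion.DSmap_comp, show (ε : grpOf i →+ M).comp (ε.symm : M →+ grpOf i) = AddMonoidHom.id _ from
        AddMonoidHom.ext fun a => ε.apply_symm_apply a, TorusTorsion.DSmap_id], by
      rw [TorusTorsion.DSmap_comp, show (ε.symm : M →+ grpOf i).comp (ε : grpOf i →+ M) = AddMonoidHom.id _ from
        AddMonoidHom.ext fun a => ε.symm_apply_apply a, TorusTorsion.DSmap_id]⟩
  haveI : IsMonHom d.hom := inferInstanceAs (IsMonHom (Red.DSmap V (ε : grpOf i →+ M)))
  exact ⟨i, V, π, hπ, ⟨v, hv⟩, ⟨e ≪≫ Grp.mkIso' d⟩⟩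

theorem hasType_of_split {i : Types.{u}} {V : Scheme.{u}} {π : V ⟶ T} [Etale π]
    (e : Grp.mk (Red.bc π H) ≅ Grp.mk (Red.DS V (grpOf i))) {y : T} (hy : y ∈ Set.range π) : HasType H y i := by
  obtain ⟨l, hl⟩ := exists_lift_etale π (Red.geomPt y) (by rw [geomPt_closedPoint]; exact hy)
  exact ⟨bcSplit e l hl⟩

theorem exists_typeFun (hH : SGA3x.IsMultTypeFT H) (hf : ∀ x : T, IsFinite (Red.geomFibre x H).hom) :
    ∃ τ : T → Types.{u}, IsLocallyConstant τ ∧ ∀ x, HasType H x (τ x) := by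
  choose i V π hπ hx he using exists_split_nhd hH hf
  refine ⟨i, (IsLocallyConstant.iff_exists_open i).2 fun x => ?_, fun x => ?_⟩
  · haveI := hπ x
    refine ⟨Set.range (π x), (π x).isOpenMap.isOpen_range, hx x, fun y hy => ?_⟩
    haveI := hπ y
    exact (hasType_of_split (he y).some (hx y)).unique (hasType_of_split (he x).some hy)
  · haveI := hπ x
    exact hasType_of_split (he x).some (hx x)

theorem isFinite_of_geomFibres (hH : SGA3x.IsMultTypeFT H) (hf : ∀ x : T, IsFinite (Red.geomFibre x H).hom) :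
    IsFinite H.hom := by
  choose i V π hπ hx he using exists_split_nhd hH hf
  refine FpqcLocal.of_fpqc (P := @IsFinite) H.hom (𝟙 T) (Sigma.desc π : (∐ V) ⟶ T) ?_ fun z => ?_
  · haveI : Etale (Sigma.desc π : (∐ V) ⟶ T) := IsZariskiLocalAtSource.sigmaDesc (P := @Etale) hπ
    haveI : Surjective (Sigma.desc π : (∐ V) ⟶ T) := ⟨fun x => by
      obtain ⟨w, hw⟩ := hx x
      exact ⟨Sigma.ι V x w, by rw [← Scheme.Hom.comp_apply, Sigma.ι_desc]; exact hw⟩⟩
    exact Groth.L08.Borel.cover_of_lfp _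
  · obtain ⟨x, w, hw⟩ := (sigmaOpenCover V).exists_eq z
    haveI := hπ x
    refine ⟨(Sigma.ι V x).opensRange, ⟨w, hw⟩, ?_⟩
    let σ : (∐ V) ⟶ T := Sigma.desc π
    let φ := IsOpenImmersion.lift (Sigma.ι V x) (Sigma.ι V x).opensRange.ι (by rintro _ ⟨w, rfl⟩; exact w.2)
    have hφ : φ ≫ π x = (Sigma.ι V x).opensRange.ι ≫ σ := by
      rw [← Sigma.ι_desc π x, ← Category.assoc, IsOpenImmersion.lift_fac]
    refine FpqcLocal.bc_comp H.hom (pullback.snd (𝟙 T) ((Sigma.ι V x).opensRange.ι ≫ σ))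
      ((Sigma.ι V x).opensRange.ι ≫ σ) _ (by rw [← pullback.condition, Category.comp_id]) ?_
    exact isFinite_iso ((Grp.forget _).mapIso (bcSplit (he x).some φ hφ)).symm (isFinite_DS _ _)

section Compare

variable {G : Over S} {M : Over S} {K : Over M.left} [GrpObj K] [GrpObj G]
  (j : K ⟶ Red.bc M.hom G) [IsMonHom j] [Mono j.left]

/-- equal points in `G` give isomorphic base changes -/
theorem nonempty_iso_bc {f : T ⟶ S} {K' : Over T} [GrpObj K'] (j' : K' ⟶ Red.bc f G) [IsMonHom j'] [Mono j'.left]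
    (v : Over.mk f ⟶ M) (h : ∀ (Y : Over S) (t : Y ⟶ Over.mk f) (g : Y ⟶ G),
      Mem (M := Over.mk f) j' t g ↔ Mem j (t ≫ v) g) :
    Nonempty (Grp.mk K' ≅ Grp.mk (Red.bc v.left K)) := by
  let ci := ActBC.bcCompIso v.left M.hom G (Over.w v)
  let j₁ : Red.bc v.left K ⟶ Red.bc f G := (Over.pullback v.left).map j ≫ ci.hom
  haveI : IsMonHom ((Over.pullback v.left).map j) := MonoClosed.isMonHom_pullbackMap _ _
  haveI : IsMonHom ci.hom := (Grp.mkIso' ci).hom.hom.isMonHom_hom
  haveI : IsMonHom j₁ := inferInstanceAs (IsMonHom ((Over.pullback v.left).map j ≫ ci.hom))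
  haveI : Mono j := Over.mono_of_mono_left _
  haveI : Mono j₁ := inferInstanceAs (Mono ((Over.pullback v.left).map j ≫ ci.hom))
  haveI : Mono j₁.left := inferInstance
  obtain ⟨φ, hφ⟩ := FinSub.exists_iso (M := Over.mk f) j' j₁ fun Y t g => (h Y t g).trans (mem_bc_iff j v t g).symm
  have : IsMonHom φ.hom := Bridge.isMonHom_of_mul φ.hom fun Y a b => by
    rw [← cancel_mono j₁, Category.assoc, hφ, MonObj.mul_comp, MonObj.mul_comp, Category.assoc, Category.assoc, hφ]
  exact ⟨Grp.mkIso' φ⟩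

end Compare

end Groth.L24.FinSub
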