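import Groth.Agent.L24.FinSub.Twist
import Groth.Prelude.Def_Mor2
import Groth.Prelude.Def_RedSub

/-!
# The scheme of subgroups with the type of a given finite group of multiplicative type
-/

set_option autoImplicit false
universe u

open CategoryTheory CategoryTheory.Limits MonoidalCategory CartesianMonoidalCategory AlgebraicGeometry
open scoped MonObj

set_option backward.isDefEq.respectTransparency.types false
set_option linter.style.haveILetI false

noncomputable section

namespace Groth.L24.FinSub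

open Groth.L25 Groth.L25.SplitSub

variable {S : Scheme.{u}}

omit S in
/-- transporting a base change along a factorisation -/
def bcMove {A B C : Scheme.{u}} {H : Over C} [GrpObj H] (l : A ⟶ B) (m : B ⟶ C) (d : A ⟶ C) (h : l ≫ m = d) :
    Grp.mk (Red.bc l (Red.bc m H)) ≅ Grp.mk (Red.bc d H) :=
  Grp.mkIso' (ActBC.bcCompIso l m H h)

theorem isFinite_geomFibre {T : Scheme.{u}} {H : Over T} (h : ∀ x : T, IsFinite (H.hom.fiberToSpecResidueField x))
    (x : T) : IsFinite (Red.geomFibre x H).hom := by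
  let a := Spec.map (CommRingCat.ofHom (algebraMap (T.residueField x) (AlgebraicClosure (T.residueField x))))
  let c : Red.bc a (Red.bc (T.fromSpecResidueField x) H) ≅ Red.geomFibre x H :=
    ActBC.bcCompIso a (T.fromSpecResidueField x) H rfl
  exact isFinite_iso c (MorphismProperty.pullback_snd _ a (h x))

theorem exists_type_iso {T T' : Scheme.{u}} {H : Over T} [GrpObj H] {H' : Over T'} [GrpObj H'] (x : T') {y : T}
    {i : Types.{u}} (hy : HasType H y i) (hH : SGA3x.IsMultTypeFT H) (hf : ∀ z : T, IsFinite (Red.geomFibre z H).hom)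
    (ξ : Spec (CommRingCat.of (AlgebraicClosure (T'.residueField x))) ⟶ T)
    (hξ : ξ (IsLocalRing.closedPoint _) = y) :
    Nonempty (Grp.mk (Red.bc ξ H) ≅ Grp.mk (Red.DS _ (grpOf i))) := by
  obtain ⟨k, V, π, hπ, hy', ⟨e⟩⟩ := exists_split_nhd hH hf y
  haveI := hπ
  obtain rfl := (hasType_of_split e hy').unique hy
  obtain ⟨l, hl⟩ := exists_lift_etale π ξ (hξ ▸ hy')
  exact ⟨bcSplit e l hl⟩

variable {G : Over S} [GrpObj G] [IsAffineHom G.hom]

theorem Data.hasType_totK (D : Data G) [GrpObj D.totK] [IsMonHom D.totj] (i : Types.{u}) {m : D.tot.left}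
    (hm : m ∈ (D.inc i).left.opensRange) : HasType D.totK m i := by
  obtain ⟨z, rfl⟩ := hm
  haveI := (D.quot i).etale
  haveI := (D.quot i).surjective
  obtain ⟨x, rfl⟩ := (D.p i).left.surjective z
  obtain ⟨e⟩ := D.nonempty_totK_iso i
  haveI : Etale (D.p i ≫ D.inc i).left := inferInstanceAs (Etale ((D.p i).left ≫ (D.inc i).left))
  exact hasType_of_split e ⟨x, rfl⟩

theorem exists_twistScheme [LocallyOfFinitePresentation G.hom] (H : Over S) [GrpObj H]
    (hH : SGA3x.IsMultTypeFT H) (hHf : ∀ s : S, IsFinite (H.hom.fiberToSpecResidueField s)) :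
    ∃ (M : Over S) (Hu : Over M.left) (_ : GrpObj Hu) (hu : Hu ⟶ Red.bc M.hom G) (_ : IsMonHom hu) (_ : Mono hu),
      Mor2.IsQuasiAffine M.hom ∧ LocallyOfFinitePresentation M.hom ∧ SGA3x.IsMultTypeFT Hu ∧
      (∀ m : ↥M.left, Nonempty (Grp.mk (Red.geomFibre m Hu) ≅ Grp.mk (Red.bc (Red.geomPt m ≫ M.hom) H))) ∧
      ∀ (S' : Scheme.{u}) (f : S' ⟶ S) (H' : Over S') [GrpObj H'] (h' : H' ⟶ Red.bc f G) [IsMonHom h'] [Mono h'],
        SGA3x.IsMultTypeFT H' →
        (∀ s' : S', Nonempty (Grp.mk (Red.geomFibre s' H') ≅ Grp.mk (Red.bc (Red.geomPt s' ≫ f) H))) →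
        ∃! g : S' ⟶ M.left, g ≫ M.hom = f ∧ RedSub.SamePoints G f h' M hu g := by
  obtain ⟨D⟩ := nonempty_data G
  obtain ⟨hg, hj⟩ := D.exists_grp
  letI := hg
  haveI := hj
  haveI := D.isClosedImmersion_totj
  haveI := D.isFinite_totK
  have hfH := isFinite_geomFibre hHf
  obtain ⟨τH, hτH, htH⟩ := exists_typeFun hH hfH
  have hfK : ∀ m, IsFinite (Red.geomFibre m D.totK).hom := fun m => MorphismProperty.pullback_snd _ _ D.isFinite_totK
  obtain ⟨τK, hτK, htK⟩ := exists_typeFun D.isMultTypeFT_totK hfK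
  let U : D.tot.left.Opens := ⟨{m | τK m = τH (D.tot.hom m)}, by
    rw [show {m | τK m = τH (D.tot.hom m)} = ⋃ i, τK ⁻¹' {i} ∩ D.tot.hom ⁻¹' (τH ⁻¹' {i}) by
      ext m; simp [eq_comm]]
    exact isOpen_iUnion fun i => (hτK.isOpen_fiber i).inter ((hτH.isOpen_fiber i).preimage D.tot.hom.continuous)⟩
  let M : Over S := Over.mk (U.ι ≫ D.tot.hom)
  let ιU : M ⟶ D.tot := Over.homMk U.ι rfl
  have haff : IsAffineHom M.hom := by
    refine isAffineHom_of_forall_exists_isAffineOpen M.hom fun s => ?_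
    obtain ⟨_, ⟨W, hW, rfl⟩, hsW, hWle⟩ := S.isBasis_affineOpens.exists_subset_of_mem_open
      (show s ∈ τH ⁻¹' {τH s} from rfl) (hτH.isOpen_fiber _)
    refine ⟨W, hsW, hW, ?_⟩
    let i := τH s
    haveI := (D.quot i).affine
    rw [← U.ι.isAffineOpen_iff_of_isOpenImmersion]
    have himg : U.ι ''ᵁ (M.hom ⁻¹ᵁ W) = (D.inc i).left ''ᵁ ((D.M i).hom ⁻¹ᵁ W) := by
      ext m
      constructor
      · rintro ⟨w, hw, rfl⟩
        have hw' : D.tot.hom (U.ι w) ∈ W := by
          rw [← Scheme.Hom.comp_apply]; exact hw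
        obtain ⟨k, z, hz⟩ := exists_sigma_ι (fun i => (D.M i).left) (U.ι w)
        have hk : k = i := ((D.hasType_totK k ⟨z, hz⟩).unique (htK (U.ι w))).trans
          ((show τK (U.ι w) = τH (D.tot.hom (U.ι w)) from w.2).trans (hWle hw'))
        subst hk
        refine ⟨z, ?_, hz⟩
        show (D.M i).hom z ∈ W
        rw [← Over.w (D.inc i), Scheme.Hom.comp_apply]
        exact (congrArg (fun a => D.tot.hom a ∈ W) hz).mpr hw'
      · rintro ⟨z, hz, rfl⟩
        have hz' : D.tot.hom ((D.inc i).left z) ∈ W := by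
          rw [← Scheme.Hom.comp_apply, Over.w (D.inc i)]; exact hz
        have hmU : (D.inc i).left z ∈ U :=
          ((htK _).unique (D.hasType_totK i ⟨z, rfl⟩)).trans (hWle hz').symm
        refine ⟨⟨_, hmU⟩, ?_, rfl⟩
        show (U.ι ≫ D.tot.hom) _ ∈ W
        rw [Scheme.Hom.comp_apply]
        exact hz'
    rw [himg]
    exact (hW.preimage (D.M i).hom).image_of_isOpenImmersion (D.inc i).left
  haveI := haff
  let ci := ActBC.bcCompIso U.ι D.tot.hom G (d := M.hom) rfl
  let hu : Red.bc U.ι D.totK ⟶ Red.bc M.hom G := (Over.pullback U.ι).map D.totj ≫ ci.hom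
  haveI : IsMonHom ((Over.pullback U.ι).map D.totj) := MonoClosed.isMonHom_pullbackMap _ _
  haveI : IsMonHom ci.hom := (Grp.mkIso' ci).hom.hom.isMonHom_hom
  haveI hum : IsMonHom hu := inferInstanceAs (IsMonHom ((Over.pullback U.ι).map D.totj ≫ ci.hom))
  haveI : Mono D.totj := Over.mono_of_mono_left _
  haveI hmono : Mono hu := inferInstanceAs (Mono ((Over.pullback U.ι).map D.totj ≫ ci.hom))
  have hlfp : LocallyOfFinitePresentation M.hom := by
    haveI := D.locallyOfFinitePresentation_tot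
    exact inferInstanceAs (LocallyOfFinitePresentation (U.ι ≫ D.tot.hom))
  have hmem : ∀ (Y : Over S) (t : Y ⟶ M) (g : Y ⟶ G), Mem hu t g ↔ Mem D.totj (t ≫ ιU) g := fun Y t g =>
    mem_bc_iff D.totj ιU t g
  refine ⟨M, Red.bc U.ι D.totK, inferInstance, hu, hum, hmono, ⟨inferInstance, fun V hV => ?_⟩, hlfp,
    MultTypeBC.isMultTypeFT_bc D.isMultTypeFT_totK U.ι, fun m => ?_, fun S' f H' _ h' _ _ hH' hty => ?_⟩
  · haveI : IsAffine (M.hom ⁻¹ᵁ V).toScheme := hV.preimage M.hom
    infer_instance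
  · have hm : τK (U.ι m) = τH (D.tot.hom (U.ι m)) := m.2
    obtain ⟨a⟩ := exists_type_iso (H' := Red.bc U.ι D.totK) m (htK (U.ι m)) D.isMultTypeFT_totK hfK
      (Red.geomPt m ≫ U.ι) (by rw [Scheme.Hom.comp_apply]; exact congrArg U.ι (geomPt_closedPoint m))
    obtain ⟨b⟩ := exists_type_iso (H' := Red.bc U.ι D.totK) m (htH (D.tot.hom (U.ι m))) hH hfH
      (Red.geomPt m ≫ M.hom) (by
        rw [Scheme.Hom.comp_apply]
        exact (congrArg (U.ι ≫ D.tot.hom) (geomPt_closedPoint m)).trans (Scheme.Hom.comp_apply _ _ _))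
    rw [hm] at a
    exact ⟨bcMove (Red.geomPt m) U.ι _ rfl ≪≫ a ≪≫ b.symm⟩
  · have hf' : ∀ x, IsFinite (Red.geomFibre x H').hom := fun x => by
      obtain ⟨b⟩ := hty x
      refine isFinite_iso ((Grp.forget _).mapIso b).symm ?_
      haveI : IsFinite H.hom := isFinite_of_geomFibres hH hfH
      exact MorphismProperty.pullback_snd _ _ ‹IsFinite H.hom›
    haveI : IsFinite H'.hom := isFinite_of_geomFibres hH' hf'
    haveI : Mono h'.left := inferInstance
    haveI : IsSeparated (Red.bc f G).hom := MorphismProperty.pullback_snd G.hom f inferInstance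
    obtain ⟨v, hv⟩ := D.exists_map h' hH'
    obtain ⟨θ⟩ := nonempty_iso_bc D.totj h' v hv
    have hvU : ∀ x : S', v.left x ∈ U := fun x => by
      obtain ⟨a⟩ := exists_type_iso (H' := H') x (htK (v.left x)) D.isMultTypeFT_totK hfK
        (Red.geomPt x ≫ v.left) (by rw [Scheme.Hom.comp_apply, geomPt_closedPoint])
      obtain ⟨b⟩ := exists_type_iso (H' := H') x (htH (f x)) hH hfH (Red.geomPt x ≫ f)
        (by rw [Scheme.Hom.comp_apply, geomPt_closedPoint])
      obtain ⟨c⟩ := hty x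
      have h1 : HasType H' x (τK (v.left x)) :=
        ⟨(Over.pullback (Red.geomPt x)).mapGrp.mapIso θ ≪≫ bcMove (Red.geomPt x) v.left _ rfl ≪≫ a⟩
      have h2 : HasType H' x (τH (f x)) := ⟨c ≪≫ b⟩
      show τK (v.left x) = τH (D.tot.hom (v.left x))
      rw [h1.unique h2, ← Scheme.Hom.comp_apply, Over.w v]
      rfl
    let g := IsOpenImmersion.lift U.ι v.left (by rintro _ ⟨x, rfl⟩; rw [Scheme.Opens.range_ι]; exact hvU x)
    have hgι : g ≫ U.ι = v.left := IsOpenImmersion.lift_fac _ _ _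
    have hgf : g ≫ M.hom = f := by
      show g ≫ U.ι ≫ D.tot.hom = f
      rw [reassoc_of% hgι]
      exact Over.w v
    have same_iff : ∀ (g₁ : S' ⟶ M.left) (hg₁ : g₁ ≫ M.hom = f), RedSub.SamePoints G f h' M hu g₁ ↔
        ∀ (Y : Over S) (t : Y ⟶ Over.mk f) (γ : Y ⟶ G),
          Mem (M := Over.mk f) h' t γ ↔ Mem hu (t ≫ Over.homMk g₁ hg₁) γ := by
      intro g₁ hg₁
      constructor
      · exact fun hs Y t γ => hs Y.left t.left γ.left
      · intro hs X y γ
        have hw' : h'.left ≫ pullback.snd G.hom f = H'.hom := Over.w h'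
        have hwu : hu.left ≫ pullback.snd G.hom M.hom = (Red.bc U.ι D.totK).hom := Over.w hu
        constructor
        · rintro ⟨p, hp, hp'⟩
          have hγ : γ ≫ G.hom = y ≫ f := by
            rw [← hp', ← hp, Category.assoc, Category.assoc, Category.assoc, pullback.condition, reassoc_of% hw']
          exact (hs (Over.mk (y ≫ f)) (Over.homMk y rfl) (Over.homMk γ hγ)).1 ⟨p, hp, hp'⟩
        · rintro ⟨p, hp, hp'⟩
          have hγ : γ ≫ G.hom = y ≫ f := by
            rw [← hp', ← hg₁, ← Category.assoc y, ← hp, Category.assoc, Category.assoc, Category.assoc,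
              pullback.condition, reassoc_of% hwu]
          exact (hs (Over.mk (y ≫ f)) (Over.homMk y rfl) (Over.homMk γ hγ)).2 ⟨p, hp, hp'⟩
    refine ⟨g, ⟨hgf, (same_iff g hgf).2 fun Y t γ => ?_⟩, ?_⟩
    · rw [hmem, hv Y t γ, Category.assoc,
        show (Over.homMk g hgf : Over.mk f ⟶ M) ≫ ιU = v from Over.OverMorphism.ext hgι]
    · rintro g₁ ⟨hg₁, hs⟩
      have he : (Over.homMk g₁ hg₁ : Over.mk f ⟶ M) ≫ ιU = v := D.pt_ext _ _ fun Y t γ => by
        rw [← Category.assoc, ← hmem, ← (same_iff g₁ hg₁).1 hs Y t γ, hv Y t γ]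
      rw [← cancel_mono U.ι, hgι]
      exact congrArg (fun m => m.left) he

end Groth.L24.FinSub
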